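import Groth.Agent.H18Et.Cons.ModBasic
import Groth.Agent.H18Et.Cons.Serre

/-!
Constructible sheaves of modules on an arbitrary scheme form a weak Serre subcategory.
-/

set_option autoImplicit false
set_option backward.isDefEq.respectTransparency false
set_option backward.isDefEq.respectTransparency.types false

universe u

open CategoryTheory CategoryTheory.Limits AlgebraicGeometry

namespace Groth.Agent.H18Et.Cons

open scoped Groth.Agent.H18Et

variable (Λ : Type (u + 1)) [CommRing Λ] [IsNoetherianRing Λ] {X : Scheme.{u}}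

omit [IsNoetherianRing Λ] in
theorem isConstructible_mod_of_imp {F G H : EtModW.Mod Λ X} (hF : EtModW.IsConstructible Λ F)
    (hG : EtModW.IsConstructible Λ G)
    (h : ∀ {T : Scheme.{u}} (g : T ⟶ X), FTLC Λ F g → FTLC Λ G g → FTLC Λ H g) :
    EtModW.IsConstructible Λ H :=
  (isConstructible_mod_iff Λ H).2 (locAdapted_of_covered (ftlc_precomp Λ _) fun U hU =>
    ((covered_of_adaptedQ ((isConstructible_mod_iff Λ F).1 hF U hU)).and (ftlc_precomp Λ _) (ftlc_precomp Λ _)
      (covered_of_adaptedQ ((isConstructible_mod_iff Λ G).1 hG U hU))).imp fun g hg => h g hg.1 hg.2)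

theorem isConstructible_mod_kernel {F G : EtModW.Mod Λ X} (φ : F ⟶ G)
    (hF : EtModW.IsConstructible Λ F) (hG : EtModW.IsConstructible Λ G) :
    EtModW.IsConstructible Λ (kernel φ) :=
  isConstructible_mod_of_imp Λ hF hG fun g h1 h2 =>
    haveI := H25Constr.pullMod_preservesFiniteLimits Λ g
    haveI : (EtModW.pull Λ g).PreservesZeroMorphisms :=
      Functor.preservesZeroMorphisms_of_preserves_terminal_object
    LC.isFTLocConst_of_iso Λ (PreservesKernel.iso (EtModW.pull Λ g) φ).symm
      (LC.isFTLocConst_kernel_cokernel Λ ((EtModW.pull Λ g).map φ) h1 h2).1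

theorem isConstructible_mod_cokernel {F G : EtModW.Mod Λ X} (φ : F ⟶ G)
    (hF : EtModW.IsConstructible Λ F) (hG : EtModW.IsConstructible Λ G) :
    EtModW.IsConstructible Λ (cokernel φ) :=
  isConstructible_mod_of_imp Λ hF hG fun g h1 h2 =>
    haveI := H25Constr.pullMod_preservesFiniteLimits Λ g
    haveI : (EtModW.pull Λ g).PreservesZeroMorphisms :=
      Functor.preservesZeroMorphisms_of_preserves_terminal_object
    LC.isFTLocConst_of_iso Λ (PreservesCokernel.iso (EtModW.pull Λ g) φ).symm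
      (LC.isFTLocConst_kernel_cokernel Λ ((EtModW.pull Λ g).map φ) h1 h2).2

theorem isConstructible_mod_extension (S : ShortComplex (EtModW.Mod Λ X)) (hS : S.ShortExact)
    (h₁ : EtModW.IsConstructible Λ S.X₁) (h₃ : EtModW.IsConstructible Λ S.X₃) :
    EtModW.IsConstructible Λ S.X₂ :=
  isConstructible_mod_of_imp Λ h₁ h₃ fun g h1 h2 =>
    haveI := H25Constr.pullMod_preservesFiniteLimits Λ g
    haveI : (EtModW.pull Λ g).PreservesZeroMorphisms :=
      Functor.preservesZeroMorphisms_of_preserves_terminal_object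
    LC.isFTLocConst_extension Λ (hS.map_of_exact (EtModW.pull Λ g)) h1 h2

end Groth.Agent.H18Et.Cons

namespace Groth.Agent.H18Et.Cons

open scoped Groth.Agent.H18Et
open ZeroObject

variable (Λ : Type (u + 1)) [CommRing Λ] {X : Scheme.{u}}

theorem isFTLocConst_of_isZero {F : EtModW.Mod Λ X} (hF : IsZero F) : EtModW.IsFTLocConst Λ F := by
  refine (LC.isFTLocConst_iff Λ F).2 ⟨_, fun _ : X => EtCoh.top X, LC.covers_of_forall fun x => ⟨x, rfl⟩, fun i =>
    ⟨ModuleCat.of Λ PUnit.{u + 2}, inferInstanceAs (Module.Finite Λ PUnit.{u + 2}), 0, ?_⟩⟩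
  intro Ω _ _ ξ x
  haveI : (EtModW.stalk Λ ξ).PreservesZeroMorphisms := LC.sheafFiber_preservesZero _
  have h1 : IsZero ((EtModW.stalk Λ ξ).obj F) := Functor.map_isZero _ hF
  have h0 : IsZero (ModuleCat.of Λ PUnit.{u + 2}) := ModuleCat.isZero_of_subsingleton _
  rw [h0.eq_of_src ((0 : ModuleCat.of Λ PUnit.{u + 2} ⟶ F.obj.obj (Opposite.op (EtCoh.top X))) ≫ _) (h0.iso h1).hom]
  infer_instance

theorem isConstructible_mod_zero : EtModW.IsConstructible Λ (0 : EtModW.Mod Λ X) :=
  isConstructible_mod_of_ftLocConst Λ (isFTLocConst_of_isZero Λ (isZero_zero _))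

theorem isConstructible_mod_of_isoClass {F G : EtModW.Mod Λ X} (e : F ≅ G) (hF : EtModW.IsConstructible Λ F) :
    EtModW.IsConstructible Λ G :=
  isConstructible_mod_of_imp Λ hF hF fun g h _ => LC.isFTLocConst_of_iso Λ ((EtModW.pull Λ g).mapIso e) h

end Groth.Agent.H18Et.Cons
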