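import Groth.Agent.H18EpsMod.Forget
import Groth.Agent.H18Adic.LimQuot
import Groth.Agent.H18Adic.Adjoint

/-!
`ε⁻¹` and adic systems.
-/

set_option autoImplicit false
set_option backward.isDefEq.respectTransparency false
universe w v v' u u'

open CategoryTheory CategoryTheory.Limits Opposite

namespace Groth.Agent.H18EpsMod

section Quot

variable {A : Type w} [CommRing A] {C : Type u} [Category.{v} C] [Preadditive C] [Linear A C]

theorem epi_of_isQuot {I : Ideal A} {X Q : C} {p : X ⟶ Q} (hp : ARSys.IsQuot I p) : Epi p :=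
  ⟨fun {Z} a b hab => by
    obtain ⟨w, -, huniq⟩ := hp.2 Z (p ≫ a) (fun c hc => by
      rw [← Linear.smul_comp, ← Category.comp_id p, ← Linear.comp_smul, hp.1 c hc, comp_zero, zero_comp])
    exact (huniq a rfl).trans (huniq b hab.symm).symm⟩

theorem isQuot_iso_left {I : Ideal A} {X X' Q : C} (e : X' ≅ X) {p : X ⟶ Q} (hp : ARSys.IsQuot I p) :
    ARSys.IsQuot I (e.hom ≫ p) := by
  refine ⟨hp.1, fun Y φ hφ => ?_⟩
  obtain ⟨w, hw, huniq⟩ := hp.2 Y (e.inv ≫ φ) (fun c hc => by rw [← Linear.comp_smul, hφ c hc, comp_zero])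
  refine ⟨w, ?_, fun w' hw' => huniq w' ?_⟩
  · show (e.hom ≫ p) ≫ w = φ
    rw [Category.assoc, hw, Iso.hom_inv_id_assoc]
  · show p ≫ w' = e.inv ≫ φ
    rw [← hw', Category.assoc, Iso.inv_hom_id_assoc]

theorem isQuot_iso_right {I : Ideal A} {X Q Q' : C} (e : Q ≅ Q') {p : X ⟶ Q} (hp : ARSys.IsQuot I p) :
    ARSys.IsQuot I (p ≫ e.hom) := by
  refine ⟨fun a ha => ?_, fun Y φ hφ => ?_⟩
  · rw [← e.inv_hom_id, ← Linear.comp_smul, show a • e.hom = (a • 𝟙 Q) ≫ e.hom from by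
      rw [Linear.smul_comp, Category.id_comp], hp.1 a ha, zero_comp, comp_zero]
  obtain ⟨w, hw, huniq⟩ := hp.2 Y φ hφ
  refine ⟨e.inv ≫ w, ?_, fun w' hw' => ?_⟩
  · show (p ≫ e.hom) ≫ e.inv ≫ w = φ
    rw [Category.assoc, Iso.hom_inv_id_assoc, hw]
  · rw [← huniq (e.hom ≫ w') (by simpa [Category.assoc] using hw'), Iso.inv_hom_id_assoc]

/-- The transition map between two compatible quotients is a quotient map. -/
theorem isQuot_of_comp {I J : Ideal A} (hIJ : J ≤ I) {X Q Q' : C} {p : X ⟶ Q} {p' : X ⟶ Q'}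
    (hp : ARSys.IsQuot I p) (hp' : ARSys.IsQuot J p') (t : Q' ⟶ Q) (ht : p' ≫ t = p) :
    ARSys.IsQuot I t := by
  haveI := epi_of_isQuot hp'
  refine ⟨hp.1, fun Y φ hφ => ?_⟩
  obtain ⟨w, hw, huniq⟩ := hp.2 Y (p' ≫ φ) (fun c hc => by rw [← Linear.comp_smul, hφ c hc, comp_zero])
  refine ⟨w, ?_, fun w' hw' => huniq w' ?_⟩
  · show t ≫ w = φ
    rw [← cancel_epi p', ← Category.assoc, ht, hw]
  · show p ≫ w' = p' ≫ φ
    rw [← hw', ← Category.assoc, ht]

/-- A compatible tower of quotient maps gives an adic system. -/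
theorem isAdic_of_tower (I : Ideal A) {F : C} {Q : ℕᵒᵖ ⥤ C} (p : (Functor.const ℕᵒᵖ).obj F ⟶ Q)
    (hp : ∀ n : ℕ, ARSys.IsQuot (I ^ (n + 1)) (p.app (op n))) : ARSys.IsAdic I Q :=
  ⟨fun n => (hp n).1, fun n m h => isQuot_of_comp (Ideal.pow_le_pow_right (Nat.succ_le_succ h)) (hp n) (hp m) _ (by
    have h' := p.naturality (homOfLE h).op
    rw [Functor.const_obj_map] at h'
    exact h'.symm.trans (Category.id_comp _))⟩

variable {D : Type u'} [Category.{v'} D] [Preadditive D] [Linear A D]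
  {L : C ⥤ D} {R : D ⥤ C} (adj : L ⊣ R) [R.Additive] [R.Linear A]

include adj in
theorem map_smul_leftAdjoint {X Y : C} (a : A) (φ : X ⟶ Y) : L.map (a • φ) = a • L.map φ := by
  refine (adj.homEquiv X (L.obj Y)).injective ?_
  rw [H18Adic.homEquiv_smul adj, ← Category.comp_id (L.map φ), ← Category.comp_id (L.map (a • φ)),
    adj.homEquiv_naturality_left, adj.homEquiv_naturality_left, Linear.smul_comp]

include adj in
theorem map_zero_leftAdjoint (X Y : C) : L.map (0 : X ⟶ Y) = 0 := by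
  refine (adj.homEquiv X (L.obj Y)).injective ?_
  rw [H18Adic.homEquiv_zero adj, ← Category.comp_id (L.map (0 : X ⟶ Y)), adj.homEquiv_naturality_left, zero_comp]

include adj in
theorem killedBy_reflect [L.Faithful] {I : Ideal A} {X : C} (h : ARSys.KilledBy I (L.obj X)) :
    ARSys.KilledBy I X := fun a ha => L.map_injective (by
  rw [map_smul_leftAdjoint adj, map_zero_leftAdjoint adj, L.map_id, h a ha])

include adj in
theorem isQuot_reflect [L.Full] [L.Faithful] {I : Ideal A} {X Q : C} {p : X ⟶ Q}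
    (h : ARSys.IsQuot I (L.map p)) : ARSys.IsQuot I p := by
  refine ⟨killedBy_reflect adj h.1, fun Y φ hφ => ?_⟩
  obtain ⟨w, hw, huniq⟩ := h.2 (L.obj Y) (L.map φ) fun a ha => by
    rw [← map_smul_leftAdjoint adj, hφ a ha, map_zero_leftAdjoint adj]
  refine ⟨L.preimage w, L.map_injective ?_, fun w' hw' => L.map_injective ?_⟩
  · rw [L.map_comp, L.map_preimage]
    exact hw
  · rw [L.map_preimage]
    exact huniq _ ((L.map_comp _ _).symm.trans (congrArg L.map hw'))

end Quot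

end Groth.Agent.H18EpsMod

universe z

open AlgebraicGeometry

namespace Groth.Agent.H18EpsMod

variable (Λ : Type (z + 1)) [CommRing Λ] (X : Scheme.{z}) [ProEtS.EpsCont X]

instance : (pushMod Λ X).Additive where map_add := rfl

instance : (pushMod Λ X).Linear Λ where map_smul _ _ := rfl

/-- An adic system of pro-étale sheaves whose members come from the étale site comes from an adic
system on the étale site. -/
theorem exists_adic_preimage (I : Ideal Λ) (Q : ℕᵒᵖ ⥤ EtModW.ModP Λ X) (hQ : ARSys.IsAdic I Q)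
    (E : ℕ → EtModW.Mod Λ X) (e : ∀ n, (EtModW.epsPullMod Λ X).obj (E n) ≅ Q.obj (op n)) :
    ∃ G : ℕᵒᵖ ⥤ EtModW.Mod Λ X, ARSys.IsAdic I G ∧ (∀ n, G.obj (op n) = E n) ∧
      Nonempty (G ⋙ EtModW.epsPullMod Λ X ≅ Q) := by
  haveI := (full_faithful Λ X).1
  haveI := (full_faithful Λ X).2
  let L := EtModW.epsPullMod Λ X
  let G : ℕᵒᵖ ⥤ EtModW.Mod Λ X :=
    { obj := fun k => E k.unop
      map := fun {k l} f => L.preimage ((e k.unop).hom ≫ Q.map f ≫ (e l.unop).inv)
      map_id := fun k => L.map_injective (by simp)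
      map_comp := fun {k l m} f g => L.map_injective (by simp) }
  have hG : ∀ {k l : ℕᵒᵖ} (f : k ⟶ l), L.map (G.map f) = (e k.unop).hom ≫ Q.map f ≫ (e l.unop).inv :=
    fun f => L.map_preimage _
  refine ⟨G, ⟨fun n => killedBy_reflect (adjMod Λ X) ?_, fun n m h => isQuot_reflect (adjMod Λ X) ?_⟩, fun n => rfl,
    ⟨NatIso.ofComponents (fun k => e k.unop) fun {k l} f => ?_⟩⟩
  · intro a ha
    change a • 𝟙 (L.obj (E n)) = 0
    rw [← (e n).hom_inv_id, ← Linear.comp_smul,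
      show a • (e n).inv = (a • 𝟙 _) ≫ (e n).inv from by rw [Linear.smul_comp, Category.id_comp],
      hQ.1 n a ha, zero_comp, comp_zero]
  · change ARSys.IsQuot _ (L.map (G.map (homOfLE h).op))
    rw [hG]
    exact isQuot_iso_left (e m) (isQuot_iso_right (e n).symm (hQ.2 n m h))
  · change L.map (G.map f) ≫ (e l.unop).hom = (e k.unop).hom ≫ Q.map f
    rw [hG, Category.assoc, Category.assoc, Iso.inv_hom_id, Category.comp_id]

theorem isAdic_comp (I : Ideal Λ) (G : ℕᵒᵖ ⥤ EtModW.Mod Λ X) (hG : ARSys.IsAdic I G) :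
    ARSys.IsAdic I (G ⋙ EtModW.epsPullMod Λ X) :=
  H18Adic.isAdic_comp (adjMod Λ X) hG

theorem isQuot_limit_π (I : Ideal Λ) (hI : I.FG) (G : ℕᵒᵖ ⥤ EtModW.Mod Λ X) (hG : ARSys.IsAdic I G) (n : ℕ) :
    ARSys.IsQuot (I ^ (n + 1)) (limit.π (G ⋙ EtModW.epsPullMod Λ X) (op n)) :=
  H18Adic.isQuot_limit_π _ I hI (isAdic_comp Λ X I G hG) n

end Groth.Agent.H18EpsMod
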