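import Groth.Prelude.Def_EtModW
import Groth.Prelude.Def_ProEtS
import Mathlib.CategoryTheory.Adjunction.Unique

/-!
`ε⁻¹` commutes with inverse images.
-/

set_option autoImplicit false
set_option backward.isDefEq.respectTransparency false
universe u

open CategoryTheory CategoryTheory.Limits AlgebraicGeometry Opposite

namespace Groth.Agent.H18EpsMod

variable {X T : Scheme.{u}} (g : T ⟶ X)

/-- The two functors from the étale site of `X` to the pro-étale site of `T`. -/
noncomputable def siteIso : ProEtS.eps X ⋙ ProEtS.bcP g ≅ EtCoh.bc g ⋙ ProEtS.eps T :=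
  NatIso.ofComponents (fun V => MorphismProperty.Over.isoMk (Iso.refl _) (Category.id_comp _)) fun f => by
    apply MorphismProperty.Over.Hom.ext
    change ((ProEtS.bcP g).map ((ProEtS.eps X).map f)).left ≫ 𝟙 _ = 𝟙 _ ≫ ((EtCoh.bc g).map f).left
    exact ((Category.comp_id _).trans rfl).trans (Category.id_comp _).symm

variable (Λ : Type (u + 1)) [CommRing Λ] [ProEtS.EpsCont X] [ProEtS.EpsCont T] [ProEtS.PCont g]

/-- Inverse images commute with `ε⁻¹`. -/
theorem nonempty_epsPullMod_pull_iso : Nonempty (EtModW.epsPullMod Λ X ⋙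
      (ProEtS.bcP g).sheafPullback (ModuleCat.{u + 1} Λ) (Scheme.ProEt.topology X) (Scheme.ProEt.topology T) ≅
    EtModW.pull Λ g ⋙ EtModW.epsPullMod Λ T) := by
  let A := ModuleCat.{u + 1} Λ
  let a₁ := ((ProEtS.eps X).sheafAdjunctionContinuous A X.smallEtaleTopology (Scheme.ProEt.topology X)).comp
    ((ProEtS.bcP g).sheafAdjunctionContinuous A (Scheme.ProEt.topology X) (Scheme.ProEt.topology T))
  let a₂ := ((EtCoh.bc g).sheafAdjunctionContinuous A X.smallEtaleTopology T.smallEtaleTopology).comp
    ((ProEtS.eps T).sheafAdjunctionContinuous A T.smallEtaleTopology (Scheme.ProEt.topology T))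
  let e : (ProEtS.eps T).sheafPushforwardContinuous A T.smallEtaleTopology (Scheme.ProEt.topology T) ⋙
        (EtCoh.bc g).sheafPushforwardContinuous A X.smallEtaleTopology T.smallEtaleTopology ≅
      (ProEtS.bcP g).sheafPushforwardContinuous A (Scheme.ProEt.topology X) (Scheme.ProEt.topology T) ⋙
        (ProEtS.eps X).sheafPushforwardContinuous A X.smallEtaleTopology (Scheme.ProEt.topology X) :=
    NatIso.ofComponents (fun F => (fullyFaithfulSheafToPresheaf _ _).preimageIso
      (Functor.isoWhiskerRight (NatIso.op (siteIso g)) F.obj)) fun {F G} φ => by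
      refine Sheaf.hom_ext (NatTrans.ext (funext fun V => ?_))
      exact (φ.hom.naturality ((siteIso g).hom.app V.unop).op).symm
  exact ⟨a₁.leftAdjointUniq (a₂.ofNatIsoRight e)⟩

end Groth.Agent.H18EpsMod
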