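import Groth.Agent.H18EpsMod.Transport
import Groth.Agent.H18EpsMod.BaseChange
import Groth.Agent.H1EpsS.PushDerived
import Groth.Agent.S0722

/-!
Direct images along closed immersions of adic pro-étale sheaves.
-/

set_option autoImplicit false
set_option backward.isDefEq.respectTransparency false
universe u

open CategoryTheory CategoryTheory.Limits AlgebraicGeometry Opposite

namespace Groth.Agent.H18EpsMod

variable (Λ : Type (u + 1)) [CommRing Λ] {Z X : Scheme.{u}} (i : Z ⟶ X) [IsClosedImmersion i] [ProEtS.PCont i]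

/-- Direct image on pro-étale sheaves of modules. -/
noncomputable abbrev pushPMod : EtModW.ModP Λ Z ⥤ EtModW.ModP Λ X :=
  (ProEtS.bcP i).sheafPushforwardContinuous (ModuleCat.{u + 1} Λ) (Scheme.ProEt.topology X) (Scheme.ProEt.topology Z)

theorem isWC_bcP (hr : IsRetrocompact (Set.range i.base)ᶜ) (V : X.ProEt) (hV : IsAffine V.left)
    (hw : ProEtS.IsWC V) : IsAffine ((ProEtS.bcP i).obj V).left ∧ ProEtS.IsWC ((ProEtS.bcP i).obj V) := by
  haveI := hV
  haveI : IsAffine ((𝟭 Scheme).obj V.left) := hV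
  have hwc : EtPBC.IsWContractible Γ(V.left, ⊤) := H26ProEt.splits_iff.2 (H26ProEt.splits_of_isWC hw)
  let g := pullback.fst V.hom i
  haveI : IsClosedImmersion g := MorphismProperty.pullback_fst _ _ inferInstance
  haveI : IsAffine (pullback V.hom i) := isAffine_of_isAffineHom g
  haveI hAff : IsAffine ((ProEtS.bcP i).obj V).left := inferInstanceAs (IsAffine (pullback V.hom i))
  refine ⟨hAff, H26ProEt.isWC_of_refines (H26ProEt.refines_of_splits (H26ProEt.splits_iff.1 ?_))⟩
  show EtPBC.IsWContractible Γ(pullback V.hom i, ⊤)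
  have hrange : (Set.range g)ᶜ = V.hom ⁻¹' (Set.range i.base)ᶜ := by
    rw [Set.preimage_compl]
    exact congrArg compl (Scheme.Pullback.range_fst V.hom i)
  have hopen : IsOpen (Set.range i.base)ᶜ := i.isClosedEmbedding.isClosed_range.isOpen_compl
  refine S0722.isWContractible_of_closedImmersion g hwc ?_ ?_
  · rw [hrange]
    exact H12AlgSp.isLocallyConstructible_preimage V.hom (hr.isConstructible hopen).isLocallyConstructible
  · rw [hrange]
    exact hopen.preimage V.hom.continuous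

theorem isQuot_pushPMod (hr : IsRetrocompact (Set.range i.base)ᶜ) {I : Ideal Λ} {F Q : EtModW.ModP Λ Z}
    {p : F ⟶ Q} (hp : ARSys.IsQuot I p) : ARSys.IsQuot I ((pushPMod Λ i).map p) := by
  haveI := epi_of_isQuot hp
  refine isQuot_of_sections Λ (fun a ha => ?_) fun V hVa hV => ?_
  · have h := congrArg (pushPMod Λ i).map (hp.1 a ha)
    exact h
  · obtain ⟨hWa, hW⟩ := isWC_bcP i hr V hVa hV
    exact ⟨H1DC.surjective_of_epi hW p, fun x hx => mem_smul_of_isQuot Λ hp hWa hW x hx⟩

theorem exists_pushPMod_eps [ProEtS.EpsCont Z] [ProEtS.EpsCont X] (E : EtModW.Mod Λ Z) :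
    Nonempty ((EtModW.epsPullMod Λ X).obj ((EtModW.push Λ i).obj E) ≅
      (pushPMod Λ i).obj ((EtModW.epsPullMod Λ Z).obj E)) := by
  let M := (pushPMod Λ i).obj ((EtModW.epsPullMod Λ Z).obj E)
  haveI := H1EpsS.isIso_cmp i ((fgt Λ Z).obj E)
  haveI hc : IsIso ((adjMod Λ X).counit.app M) := isIso_counit_of_ab Λ M ((EtCoh.push i).obj ((fgt Λ Z).obj E))
    (asIso ((H1EpsS.cmp i).app ((fgt Λ Z).obj E)) ≪≫ (ProEtS.pushP i).mapIso ((cmpIso Λ Z).app E))
  haveI := isIso_unit Λ E
  let θ : (pushMod Λ X).obj M ≅ (EtModW.push Λ i).obj ((pushMod Λ Z).obj ((EtModW.epsPullMod Λ Z).obj E)) :=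
    (fullyFaithfulSheafToPresheaf _ _).preimageIso
      (Functor.isoWhiskerRight (NatIso.op (siteIso i).symm) ((EtModW.epsPullMod Λ Z).obj E).obj)
  exact ⟨(EtModW.epsPullMod Λ X).mapIso ((EtModW.push Λ i).mapIso (asIso ((adjMod Λ Z).unit.app E)) ≪≫ θ.symm) ≪≫
    asIso ((adjMod Λ X).counit.app M)⟩

end Groth.Agent.H18EpsMod
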