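import Groth.Agent.H18EpsMod.Forget
import Mathlib.CategoryTheory.Sites.Adjunction

/-!
The pullback of sheaves of modules along a continuous functor commutes with forgetting the scalars.
-/

set_option autoImplicit false
set_option backward.isDefEq.respectTransparency false
universe v w z u

open CategoryTheory CategoryTheory.Limits CategoryTheory.Functor AlgebraicGeometry Opposite

namespace Groth.Agent.H18EpsMod.Gen

variable (Λ : Type (u + 1)) [CommRing Λ] {C D : Type (u + 1)} [Category.{u} C] [Category.{u} D]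
  (J : GrothendieckTopology C) (K : GrothendieckTopology D) (e : C ⥤ D) [e.IsContinuous J K]

/-- Forgetting the scalars. -/
noncomputable abbrev fg {E : Type (u + 1)} [Category.{u} E] (L : GrothendieckTopology E) :
    Sheaf L (ModuleCat.{u + 1} Λ) ⥤ Sheaf L AddCommGrpCat.{u + 1} :=
  sheafCompose L (forget₂ (ModuleCat.{u + 1} Λ) AddCommGrpCat.{u + 1})

/-- The adjunction for modules. -/
noncomputable abbrev adjM := e.sheafAdjunctionContinuous (ModuleCat.{u + 1} Λ) J K

/-- The adjunction for abelian groups. -/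
noncomputable abbrev adjA := e.sheafAdjunctionContinuous AddCommGrpCat.{u + 1} J K

theorem preservesSheafification_forget :
    K.PreservesSheafification (forget₂ (ModuleCat.{u + 1} Λ) AddCommGrpCat.{u + 1}) := by
  haveI : ∀ (J : MulticospanShape.{u + 1, u + 1}),
      HasLimitsOfShape (WalkingMulticospan J) (ModuleCat.{u + 1} Λ) := fun _ => inferInstance
  haveI : ∀ (J : MulticospanShape.{u + 1, u + 1}),
      HasLimitsOfShape (WalkingMulticospan J) AddCommGrpCat.{u + 1} := fun _ => inferInstance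
  refine GrothendieckTopology.preservesSheafification_iff_of_adjunctions_of_hasSheafCompose _ _
    (plusPlusAdjunction _ _) (plusPlusAdjunction _ _) |>.2 ?_
  infer_instance

/-- The comparison map. -/
noncomputable def cmp :
    fg Λ J ⋙ e.sheafPullback AddCommGrpCat.{u + 1} J K ⟶ e.sheafPullback (ModuleCat.{u + 1} Λ) J K ⋙ fg Λ K where
  app M := ((adjA J K e).homEquiv _ _).symm ((fg Λ J).map ((adjM Λ J K e).unit.app M))
  naturality M N f := by
    dsimp
    refine ((adjA J K e).homEquiv_naturality_left_symm _ _).symm.trans ?_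
    refine Eq.trans ?_ ((adjA J K e).homEquiv_naturality_right_symm _ _)
    congr 1
    change (fg Λ J).map f ≫ (fg Λ J).map _ =
      (fg Λ J).map _ ≫ (fg Λ J).map ((e.sheafPushforwardContinuous (ModuleCat.{u + 1} Λ) J K).map _)
    rw [← Functor.map_comp, ← Functor.map_comp]
    exact congrArg _ ((adjM Λ J K e).unit.naturality f)

theorem unit_cmp (M : Sheaf J (ModuleCat.{u + 1} Λ)) :
    (adjA J K e).unit.app ((fg Λ J).obj M) ≫
        (e.sheafPushforwardContinuous AddCommGrpCat.{u + 1} J K).map ((cmp Λ J K e).app M) =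
      (fg Λ J).map ((adjM Λ J K e).unit.app M) := by
  exact ((adjA J K e).homEquiv_unit _ _ _).symm.trans (Equiv.apply_symm_apply _ _)

theorem isIso_cmp_app (M : Sheaf J (ModuleCat.{u + 1} Λ)) : IsIso ((cmp Λ J K e).app M) := by
  let F := forget₂ (ModuleCat.{u + 1} Λ) AddCommGrpCat.{u + 1}
  let P := e.op.lan.obj M.obj
  let α : M.obj ⟶ e.op ⋙ P := e.op.lanUnit.app M.obj
  let Q : Sheaf K (ModuleCat.{u + 1} Λ) := (presheafToSheaf K (ModuleCat.{u + 1} Λ)).obj P
  let t : P ⟶ Q.obj := toSheafify K P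
  let q : M ⟶ (e.sheafPushforwardContinuous (ModuleCat.{u + 1} Λ) J K).obj Q := ⟨α ≫ whiskerLeft e.op t⟩
  -- `Q` is the pullback of `M`
  obtain ⟨b, hb, -⟩ := existsUnique_lift e K α t (K.W_toSheafify P) (G := ((e.sheafPullback (ModuleCat.{u + 1} Λ) J K).obj M).obj)
    ((e.sheafPullback (ModuleCat.{u + 1} Λ) J K).obj M).property ((adjM Λ J K e).unit.app M).hom
  let bS : Q ⟶ (e.sheafPullback (ModuleCat.{u + 1} Λ) J K).obj M := ⟨b⟩
  have hbS : q ≫ (e.sheafPushforwardContinuous (ModuleCat.{u + 1} Λ) J K).map bS = (adjM Λ J K e).unit.app M := Sheaf.hom_ext hb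
  let a : (e.sheafPullback (ModuleCat.{u + 1} Λ) J K).obj M ⟶ Q := ((adjM Λ J K e).homEquiv M Q).symm q
  have ha : (adjM Λ J K e).unit.app M ≫ (e.sheafPushforwardContinuous (ModuleCat.{u + 1} Λ) J K).map a = q :=
    ((adjM Λ J K e).homEquiv_unit _ _ _).symm.trans (Equiv.apply_symm_apply _ _)
  have hab : a ≫ bS = 𝟙 _ := by
    refine ((adjM Λ J K e).homEquiv M _).injective ?_
    rw [Adjunction.homEquiv_unit, Adjunction.homEquiv_unit, Functor.map_comp, ← Category.assoc, ha, hbS]
    exact ((congrArg ((adjM Λ J K e).unit.app M ≫ ·) ((e.sheafPushforwardContinuous (ModuleCat.{u + 1} Λ) J K).map_id _)).trans (Category.comp_id _)).symm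
  -- the universal property after forgetting the scalars
  haveI : (P ⋙ F).IsLeftKanExtension (whiskerRight α F ≫ (Functor.associator _ _ _).hom) :=
    PreservesLeftKanExtension.preserves P α
  haveI : K.PreservesSheafification F := preservesSheafification_forget Λ K
  have ht : K.W (whiskerRight t F) := K.W_of_preservesSheafification F _ (K.W_toSheafify P)
  obtain ⟨v₀, hv₀, -⟩ := existsUnique_lift e K (whiskerRight α F ≫ (Functor.associator _ _ _).hom)
    (whiskerRight t F) ht (G := ((e.sheafPullback AddCommGrpCat.{u + 1} J K).obj ((fg Λ J).obj M)).obj)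
    ((e.sheafPullback AddCommGrpCat.{u + 1} J K).obj ((fg Λ J).obj M)).property ((adjA J K e).unit.app ((fg Λ J).obj M)).hom
  let v : (fg Λ K).obj Q ⟶ (e.sheafPullback AddCommGrpCat.{u + 1} J K).obj ((fg Λ J).obj M) := ⟨v₀⟩
  have hq : ((fg Λ J).map q).hom =
      (whiskerRight α F ≫ (Functor.associator _ _ _).hom) ≫ whiskerLeft e.op (whiskerRight t F) := by
    ext U : 2
    change F.map (α.app U ≫ t.app (e.op.obj U)) = (F.map (α.app U) ≫ 𝟙 _) ≫ F.map (t.app (e.op.obj U))
    rw [Category.comp_id, Functor.map_comp]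
  have hv : (fg Λ J).map q ≫ (e.sheafPushforwardContinuous AddCommGrpCat.{u + 1} J K).map v = (adjA J K e).unit.app ((fg Λ J).obj M) := by
    refine Sheaf.hom_ext ?_
    refine Eq.trans ?_ hv₀
    exact congrArg (· ≫ whiskerLeft e.op v₀) hq
  let c := (cmp Λ J K e).app M ≫ (fg Λ K).map a
  have hc : (adjA J K e).unit.app ((fg Λ J).obj M) ≫ (e.sheafPushforwardContinuous AddCommGrpCat.{u + 1} J K).map c = (fg Λ J).map q := by
    rw [Functor.map_comp, ← Category.assoc, unit_cmp]
    change (fg Λ J).map _ ≫ (fg Λ J).map ((e.sheafPushforwardContinuous (ModuleCat.{u + 1} Λ) J K).map a) = _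
    rw [← Functor.map_comp, ha]
  have h1 : c ≫ v = 𝟙 _ := by
    refine ((adjA J K e).homEquiv _ _).injective ?_
    rw [Adjunction.homEquiv_unit, Adjunction.homEquiv_unit, Functor.map_comp, ← Category.assoc, hc, hv]
    exact ((congrArg ((adjA J K e).unit.app ((fg Λ J).obj M) ≫ ·) ((e.sheafPushforwardContinuous AddCommGrpCat.{u + 1} J K).map_id _)).trans
      (Category.comp_id _)).symm
  have h2 : v ≫ c = 𝟙 _ := by
    refine Sheaf.hom_ext ?_
    refine (existsUnique_lift e K (whiskerRight α F ≫ (Functor.associator _ _ _).hom) (whiskerRight t F) ht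
      (G := ((fg Λ K).obj Q).obj) ((fg Λ K).obj Q).property ((fg Λ J).map q).hom).unique ?_ ?_
    · change _ ≫ whiskerLeft e.op (v₀ ≫ c.hom) = _
      rw [whiskerLeft_comp, ← Category.assoc, hv₀]
      exact congrArg (fun g => g.hom) hc
    · change _ ≫ whiskerLeft e.op (𝟙 _) = _
      rw [whiskerLeft_id']
      exact (Category.comp_id _).trans hq.symm
  have h3 : bS ≫ a = 𝟙 _ := by
    refine Sheaf.hom_ext ?_
    refine (existsUnique_lift e K α t (K.W_toSheafify P) (G := Q.obj) Q.property q.hom).unique ?_ ?_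
    · change _ ≫ whiskerLeft e.op (b ≫ a.hom) = _
      rw [whiskerLeft_comp, ← Category.assoc, hb]
      exact congrArg (fun g => g.hom) ha
    · change _ ≫ whiskerLeft e.op (𝟙 _) = _
      rw [whiskerLeft_id']
      exact Category.comp_id _
  haveI : IsIso a := ⟨bS, hab, h3⟩
  haveI : IsIso c := ⟨v, h1, h2⟩
  exact IsIso.of_isIso_comp_right ((cmp Λ J K e).app M) ((fg Λ K).map a)

/-- The natural isomorphism. -/
noncomputable def cmpIso :
    fg Λ J ⋙ e.sheafPullback AddCommGrpCat.{u + 1} J K ≅ e.sheafPullback (ModuleCat.{u + 1} Λ) J K ⋙ fg Λ K :=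
  haveI : ∀ M, IsIso ((cmp Λ J K e).app M) := fun M => isIso_cmp_app Λ J K e M
  haveI := NatIso.isIso_of_isIso_app (cmp Λ J K e)
  asIso (cmp Λ J K e)

/-- The unit for modules is invertible when that for abelian groups is. -/
theorem isIso_unit (M : Sheaf J (ModuleCat.{u + 1} Λ)) [IsIso ((adjA J K e).unit.app ((fg Λ J).obj M))] :
    IsIso ((adjM Λ J K e).unit.app M) := by
  haveI := isIso_cmp_app Λ J K e M
  haveI : IsIso ((fg Λ J).map ((adjM Λ J K e).unit.app M)) := by
    rw [← unit_cmp]
    infer_instance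
  exact isIso_of_reflects_iso _ (fg Λ J)

end Groth.Agent.H18EpsMod.Gen
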