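import Groth.Agent.H18EpsMod.BaseChange
import Groth.Agent.H1EpsS.PushDerived
import Groth.Agent.S14016
import Groth.Agent.S0723
import Groth.Agent.S0726
import Groth.Agent.S0729
import Groth.Agent.S0730
import Groth.Agent.S0742
import Groth.Agent.H18Et.Cons.Strata
import Groth.Agent.H1Closed.ExtZero

/-!
Being pulled back from the étale site is local and can be checked on the strata of a constructible stratification.
-/

set_option autoImplicit false
set_option backward.isDefEq.respectTransparency false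
universe u

open CategoryTheory CategoryTheory.Limits AlgebraicGeometry Opposite Topology

namespace Groth.Agent.H18EpsMod

attribute [local instance] S0729.result S0730.result

/-- The inclusion of the pro-étale site of an open subscheme is continuous. -/
theorem jPCont {U X : Scheme.{u}} (j : U ⟶ X) [WeaklyEtale j] : ProEtS.JPCont j := by
  haveI : PreservesLimitsOfShape WalkingCospan (ProEtS.compP j ⋙ H26ProEt.toSch X) :=
    H1EpsS.preservesPullbacks_toSch (X := U)
  haveI := H1EpsS.preservesPullbacks_toSch (X := X)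
  haveI : ReflectsLimitsOfShape WalkingCospan (H26ProEt.toSch X) := reflectsLimitsOfShape_of_reflectsIsomorphisms
  haveI : PreservesLimitsOfShape WalkingCospan (ProEtS.compP j) :=
    preservesLimitsOfShape_of_reflects_of_preserves _ (H26ProEt.toSch X)
  haveI : ∀ (S : Scheme.{u}), (Scheme.ProEt.precoverage S).IsStableUnderBaseChange := fun S => by
    unfold Scheme.ProEt.precoverage; infer_instance
  haveI : ∀ (S : Scheme.{u}), (Scheme.ProEt.precoverage S).HasPullbacks := fun S => inferInstance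
  refine Functor.isContinuous_toGrothendieck_of_pullbacksPreservedBy _ _ _ fun V R hR => ?_
  obtain ⟨ι, W, f, rfl⟩ := R.exists_eq_ofArrows
  simp only [Scheme.ProEt.precoverage, Precoverage.mem_comap_iff, Presieve.map_ofArrows] at hR ⊢
  exact hR

/-- Being pulled back from the étale site. -/
def Ess (X : Scheme.{u}) : ObjectProperty (ProEtS.AbP X) := fun A =>
  ∃ G : EtCoh.Ab X, (⊤ : ObjectProperty (EtCoh.Ab X)) G ∧ Nonempty ((ProEtS.epsPull X).obj G ≅ A)

instance (X : Scheme.{u}) : WSerre.IsWeakSerre (Ess X) := S14016.result X ⊤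

theorem ess_of_iso {X : Scheme.{u}} {A : ProEtS.AbP X} {G : EtCoh.Ab X}
    (e : (ProEtS.epsPull X).obj G ≅ A) : Ess X A := ⟨G, trivial, ⟨e⟩⟩

theorem ess_iso {X : Scheme.{u}} {A B : ProEtS.AbP X} (e : A ≅ B) (h : Ess X A) : Ess X B := by
  obtain ⟨G, hG, ⟨i⟩⟩ := h
  exact ⟨G, hG, ⟨i ≪≫ e⟩⟩

theorem ess_of_isZero {X : Scheme.{u}} {A : ProEtS.AbP X} (h : IsZero A) : Ess X A := by
  obtain ⟨Z, hZ, hE⟩ := (Ess X).exists_prop_of_containsZero
  exact ess_iso (hZ.iso h) hE

variable {T X : Scheme.{u}} (g : T ⟶ X)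

theorem nonempty_epsPull_pull_iso :
    Nonempty (ProEtS.epsPull X ⋙ ProEtS.pullP g ≅ EtCoh.pull g ⋙ ProEtS.epsPull T) := by
  let e : ProEtS.epsPush T ⋙ EtCoh.push g ≅ ProEtS.pushP g ⋙ ProEtS.epsPush X :=
    NatIso.ofComponents (fun F => (fullyFaithfulSheafToPresheaf _ _).preimageIso
      (Functor.isoWhiskerRight (NatIso.op (siteIso g)) F.obj)) fun {F G} φ => by
      refine Sheaf.hom_ext (NatTrans.ext (funext fun V => ?_))
      exact (φ.hom.naturality ((siteIso g).hom.app V.unop).op).symm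
  exact ⟨((ProEtS.epsAdj X).comp (ProEtS.pullPushAdjP g)).leftAdjointUniq
    (((EtCoh.pullPushAdj g).comp (ProEtS.epsAdj T)).ofNatIsoRight e)⟩

theorem ess_pullP {A : ProEtS.AbP X} (h : Ess X A) : Ess T ((ProEtS.pullP g).obj A) := by
  obtain ⟨G, -, ⟨i⟩⟩ := h
  obtain ⟨θ⟩ := nonempty_epsPull_pull_iso g
  exact ess_of_iso ((θ.app G).symm ≪≫ (ProEtS.pullP g).mapIso i)

theorem ess_pushP [QuasiCompact g] [QuasiSeparated g] {A : ProEtS.AbP T} (h : Ess T A) :
    Ess X ((ProEtS.pushP g).obj A) := by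
  obtain ⟨G, -, ⟨i⟩⟩ := h
  haveI := H1EpsS.isIso_cmp g G
  exact ess_of_iso (asIso ((H1EpsS.cmp g).app G) ≪≫ (ProEtS.pushP g).mapIso i)

theorem nonempty_pullP_comp {S : Scheme.{u}} (f : S ⟶ T) :
    Nonempty (ProEtS.pullP g ⋙ ProEtS.pullP f ≅ ProEtS.pullP (f ≫ g)) := by
  let θ : ProEtS.bcP (f ≫ g) ≅ ProEtS.bcP g ⋙ ProEtS.bcP f :=
    MorphismProperty.Over.pullbackComp f g (f ≫ g) rfl
  let e : ProEtS.pushP (f ≫ g) ≅ ProEtS.pushP f ⋙ ProEtS.pushP g :=
    NatIso.ofComponents (fun F => (fullyFaithfulSheafToPresheaf _ _).preimageIso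
      (Functor.isoWhiskerRight (NatIso.op θ).symm F.obj)) fun {F G} φ => by
      refine Sheaf.hom_ext (NatTrans.ext (funext fun V => ?_))
      exact (φ.hom.naturality (θ.inv.app V.unop).op).symm
  exact ⟨((ProEtS.pullPushAdjP g).comp (ProEtS.pullPushAdjP f)).leftAdjointUniq
    ((ProEtS.pullPushAdjP (f ≫ g)).ofNatIsoRight e)⟩

section Open

variable {U : Scheme.{u}} (j : U ⟶ X) [IsOpenImmersion j] [ProEtS.JPCont j]

theorem nonempty_restrP_iso [ProEtS.PCont j] : Nonempty (ProEtS.restrP j ≅ ProEtS.pullP j) :=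
  ⟨((MorphismProperty.Over.mapPullbackAdj (P := @WeaklyEtale) (Q := ⊤) j (show WeaklyEtale j from inferInstance)
      trivial).sheafPushforwardContinuous (E := AddCommGrpCat.{u + 1}) (Scheme.ProEt.topology U)
      (Scheme.ProEt.topology X)).leftAdjointUniq (ProEtS.pullPushAdjP j)⟩

variable [QuasiCompact j] {Z : Scheme.{u}} (i : Z ⟶ X) [IsClosedImmersion i]
  (hc : Set.range j.base = (Set.range i.base)ᶜ)

include hc in
theorem ess_extZeroP {B : ProEtS.AbP U} (h : Ess U B) : Ess X ((ProEtS.extZeroP j).obj B) := by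
  obtain ⟨w, hS⟩ := S0726.result i j hc ((ProEtS.pushP j).obj B)
  haveI : ProEtS.PCont j := S0730.result j
  obtain ⟨θ⟩ := nonempty_restrP_iso j
  haveI := (S0742.result j B B).2
  have h2 : Ess X ((ProEtS.pushP j).obj B) := ess_pushP j h
  have h3 : Ess X ((ProEtS.pushP i).obj ((ProEtS.pullP i).obj ((ProEtS.pushP j).obj B))) :=
    ess_pushP i (ess_pullP i h2)
  have h1 := (Ess X).prop_of_isLimit_kernelFork hS.fIsKernel h2 h3
  exact ess_iso ((ProEtS.extZeroP j).mapIso
    (θ.app ((ProEtS.pushP j).obj B) ≪≫ asIso ((ProEtS.pullPushAdjP j).counit.app B))) h1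

include hc in
theorem ess_of_recollement {A : ProEtS.AbP X} (hU : Ess U ((ProEtS.pullP j).obj A))
    (hZ : Ess Z ((ProEtS.pullP i).obj A)) : Ess X A := by
  obtain ⟨w, hS⟩ := S0726.result i j hc A
  obtain ⟨θ⟩ := nonempty_restrP_iso j
  exact (Ess X).prop_X₂_of_shortExact hS (ess_extZeroP j i hc (ess_iso (θ.app A).symm hU))
    (ess_pushP i hZ)

end Open

/-- Inductive form of descent along constructible stratifications. -/
theorem ess_of_opens : ∀ (n : ℕ) (X : Scheme.{u}) [CompactSpace X] [QuasiSeparatedSpace X]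
    (V : Fin n → X.Opens), (∀ k, IsCompact (V k : Set X)) → ∀ (ι : Type) (T : ι → Scheme.{u})
    (g : ∀ i, T i ⟶ X), (∀ i, IsImmersion (g i)) → (⋃ i, Set.range (g i)) = Set.univ →
    (∀ i (x y : X), (∀ k, x ∈ V k ↔ y ∈ V k) → (x ∈ Set.range (g i) ↔ y ∈ Set.range (g i))) →
    ∀ (A : ProEtS.AbP X), (∀ i, Ess (T i) ((ProEtS.pullP (g i)).obj A)) → Ess X A := by
  intro n
  induction n with
  | zero =>
    intro X _ _ V _ ι T g hg hu hd A hA
    by_cases hne : Nonempty X
    · obtain ⟨x⟩ := hne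
      obtain ⟨i, hi⟩ := Set.mem_iUnion.1 (hu.symm ▸ Set.mem_univ x : x ∈ ⋃ i, Set.range (g i))
      have hr : Set.range (g i) = Set.univ :=
        Set.eq_univ_of_forall fun y => (hd i x y fun k => k.elim0).1 hi
      haveI := hg i
      haveI : IsClosedImmersion (g i) := IsClosedImmersion.of_isPreimmersion _ (by rw [hr]; exact isClosed_univ)
      haveI : Surjective (g i) := ⟨Set.range_eq_univ.1 hr⟩
      haveI := S0723.result (g i)
      haveI : IsIso ((ProEtS.pullPushAdjP (g i)).unit.app A) :=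
        haveI : (ProEtS.pullP (g i)).IsEquivalence :=
          (ProEtS.pullPushAdjP (g i)).isEquivalence_left_of_isEquivalence_right
        inferInstance
      exact ess_iso (asIso ((ProEtS.pullPushAdjP (g i)).unit.app A)).symm (ess_pushP (g i) (hA i))
    · haveI : IsEmpty X := not_nonempty_iff.1 hne
      refine ess_of_isZero ?_
      rw [IsZero.iff_id_eq_zero]
      refine Sheaf.hom_ext (NatTrans.ext (funext fun W => ?_))
      ext s
      haveI : IsEmpty W.unop.left := ⟨fun w => IsEmpty.false (α := ↥X) (W.unop.hom w)⟩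
      exact (H1Closed.subsingleton_of_isEmpty A W.unop).elim _ _
  | succ n ih =>
    intro X _ _ V hV ι T g hg hu hd A hA
    let U₀ : X.Opens := V (Fin.last n)
    let C : TopologicalSpace.Closeds X := ⟨(U₀ : Set X)ᶜ, U₀.2.isClosed_compl⟩
    let Z := (Scheme.IdealSheafData.vanishingIdeal C).subscheme
    let i : Z ⟶ X := (Scheme.IdealSheafData.vanishingIdeal C).subschemeι
    have hci : Set.range i = (U₀ : Set X)ᶜ := by
      rw [Scheme.IdealSheafData.range_subschemeι, Scheme.IdealSheafData.coe_support_vanishingIdeal]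
      rfl
    have hc : Set.range U₀.ι.base = (Set.range i.base)ᶜ := by
      rw [Scheme.Opens.range_ι]
      exact (compl_compl _).symm.trans (congrArg compl hci.symm)
    haveI : QuasiCompact U₀.ι := ⟨fun W hW hWc => by
      rw [U₀.ι.isOpenEmbedding.isInducing.isCompact_iff, Set.image_preimage_eq_inter_range, Scheme.Opens.range_ι]
      exact QuasiSeparatedSpace.inter_isCompact W (U₀ : Set X) hW hWc U₀.2 (hV _)⟩
    haveI : ProEtS.JPCont U₀.ι := jPCont U₀.ι
    haveI : CompactSpace U₀ := isCompact_iff_compactSpace.1 (hV _)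
    haveI : CompactSpace Z := i.isClosedEmbedding.compactSpace
    haveI : QuasiSeparatedSpace U₀.toScheme := quasiSeparatedSpace_of_quasiSeparated U₀.ι
    haveI : QuasiSeparatedSpace Z := quasiSeparatedSpace_of_quasiSeparated i
    have step : ∀ (S : Scheme.{u}) [CompactSpace S] [QuasiSeparatedSpace S] (f : S ⟶ X) [QuasiCompact f],
        (∀ s s' : S, (f s ∈ U₀ ↔ f s' ∈ U₀)) → Ess S ((ProEtS.pullP f).obj A) := by
      intro S _ _ f _ hcst
      refine ih S (fun k => f ⁻¹ᵁ V k.castSucc) (fun k => QuasiCompact.isCompact_preimage (f := f) _ (V _).2 (hV _)) ι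
        (fun k => pullback f (g k)) (fun k => pullback.fst f (g k))
        (fun k => haveI := hg k; inferInstance) ?_ ?_ _ fun k => ?_
      · simp only [Scheme.Pullback.range_fst, ← Set.preimage_iUnion, hu, Set.preimage_univ]
      · intro k s s' hss
        rw [Scheme.Pullback.range_fst]
        exact hd k (f s) (f s') fun l => Fin.lastCases (hcst s s') hss l
      · obtain ⟨θ⟩ := nonempty_pullP_comp f (pullback.fst f (g k))
        obtain ⟨θ'⟩ := nonempty_pullP_comp (g k) (pullback.snd f (g k))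
        exact ess_iso (θ'.app A ≪≫ eqToIso (by rw [pullback.condition]) ≪≫ (θ.app A).symm)
          (ess_pullP (pullback.snd f (g k)) (hA k))
    refine ess_of_recollement U₀.ι i hc (step _ U₀.ι fun s s' => ?_) (step _ i fun s s' => ?_)
    · exact iff_of_true s.2 s'.2
    · exact iff_of_false (hci.le ⟨s, rfl⟩) (hci.le ⟨s', rfl⟩)

/-- Descent along finite constructible stratifications. -/
theorem ess_of_strata [CompactSpace X] [QuasiSeparatedSpace X] {m : ℕ} (T : Fin m → Scheme.{u})
    (g : ∀ i, T i ⟶ X) (hg : ∀ i, IsImmersion (g i)) (hc : ∀ i, IsConstructible (Set.range (g i)))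
    (hu : (⋃ i, Set.range (g i)) = Set.univ) (A : ProEtS.AbP X)
    (hA : ∀ i, Ess (T i) ((ProEtS.pullP (g i)).obj A)) : Ess X A := by
  classical
  choose 𝒰 hop hdet using fun i => H18Et.Cons.exists_opens_of_isConstructible (hc i)
  let 𝒱 := Finset.univ.biUnion 𝒰
  have hop' : ∀ W ∈ 𝒱, IsOpen W ∧ IsRetrocompact W := fun W hW => by
    obtain ⟨i, -, hi⟩ := Finset.mem_biUnion.1 hW
    exact hop i W hi
  let e := 𝒱.equivFin
  refine ess_of_opens 𝒱.card X (fun k => ⟨(e.symm k).1, (hop' _ (e.symm k).2).1⟩)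
    (fun k => (hop' _ (e.symm k).2).2.isCompact) (Fin m) T g hg hu (fun i x y hxy => hdet i x y fun W hW => ?_) A hA
  have h := hxy (e ⟨W, Finset.mem_biUnion.2 ⟨i, Finset.mem_univ i, hW⟩⟩)
  simp only [Equiv.symm_apply_apply] at h
  exact h

end Groth.Agent.H18EpsMod
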