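import Groth.Agent.H18EpsMod.EssAb

/-!
Being pulled back from the étale site is local for the Zariski topology.
-/

set_option autoImplicit false
set_option backward.isDefEq.respectTransparency false
universe u

open CategoryTheory CategoryTheory.Limits AlgebraicGeometry Opposite

namespace Groth.Agent.H18EpsMod

open H26ProEt (pieceObj pieceHom)

attribute [local instance] S0729.result S0730.result

variable {X : Scheme.{u}}

/-- The two functors from the étale site of an open subscheme to the pro-étale site. -/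
noncomputable def openSiteIso {U : Scheme.{u}} (j : U ⟶ X) [IsOpenImmersion j] (V : U.Etale) :
    (ProEtS.compP j).obj ((ProEtS.eps U).obj V) ≅
      (ProEtS.eps X).obj (MorphismProperty.Over.mk ⊤ (V.hom ≫ j)
        (show EtCoh.etaleMP (V.hom ≫ j) from (show Etale (V.hom ≫ j) from haveI : Etale V.hom := V.prop; inferInstance))) :=
  MorphismProperty.Over.isoMk (Iso.refl _) (Category.id_comp _)

theorem isIso_restrP_map_counit {U : Scheme.{u}} (j : U ⟶ X) [IsOpenImmersion j] [ProEtS.JPCont j]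
    (A : ProEtS.AbP X) (h : Ess U ((ProEtS.restrP j).obj A)) :
    IsIso ((ProEtS.restrP j).map ((ProEtS.epsAdj X).counit.app A)) := by
  let φ := (ProEtS.epsAdj X).counit.app A
  let f := (ProEtS.restrP j).map φ
  obtain ⟨θ⟩ := nonempty_restrP_iso j
  have hs : Ess U ((ProEtS.restrP j).obj ((ProEtS.epsPull X).obj ((ProEtS.epsPush X).obj A))) :=
    ess_iso (θ.app _).symm (ess_pullP j (ess_of_iso (Iso.refl _)))
  obtain ⟨G₁, -, ⟨e₁⟩⟩ := hs
  obtain ⟨G₂, -, ⟨e₂⟩⟩ := h
  have c₁ := S14016.counit_isIso_of_iso e₁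
  have c₂ := S14016.counit_isIso_of_iso e₂
  haveI : ∀ G, IsIso ((ProEtS.epsAdj X).unit.app G) := fun G => H1EpsS.isIso_unit G
  haveI hφ : IsIso ((ProEtS.epsPush X).map φ) := by
    haveI : IsIso ((ProEtS.epsAdj X).unit.app ((ProEtS.epsPush X).obj A) ≫ (ProEtS.epsPush X).map φ) := by
      rw [(ProEtS.epsAdj X).right_triangle_components]
      exact IsIso.id _
    exact IsIso.of_isIso_comp_left ((ProEtS.epsAdj X).unit.app ((ProEtS.epsPush X).obj A)) _
  haveI : IsIso ((ProEtS.epsPush U).map f) := by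
    haveI hX : IsIso ((ProEtS.epsPush X).map φ).hom :=
      ((sheafToPresheaf _ _).mapIso (asIso ((ProEtS.epsPush X).map φ))).isIso_hom
    haveI hU : IsIso ((ProEtS.epsPush U).map f).hom := by
      haveI : ∀ V, IsIso (((ProEtS.epsPush U).map f).hom.app V) := fun V => by
        let σ := openSiteIso j V.unop
        let V' : X.Etale := MorphismProperty.Over.mk ⊤ (V.unop.hom ≫ j)
          (show EtCoh.etaleMP (V.unop.hom ≫ j) from
            (show Etale (V.unop.hom ≫ j) from haveI : Etale V.unop.hom := V.unop.prop; inferInstance))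
        haveI h' : IsIso (φ.hom.app (op ((ProEtS.eps X).obj V'))) :=
          (inferInstance : IsIso (((ProEtS.epsPush X).map φ).hom.app (op V')))
        exact (NatTrans.isIso_app_iff_of_iso φ.hom σ.op).1 h'
      exact NatIso.isIso_of_isIso_app _
    exact (isIso_iff_of_reflects_iso _ (sheafToPresheaf _ _)).1 hU
  have hm : IsIso ((ProEtS.epsPull U).map ((ProEtS.epsPush U).map f)) := inferInstance
  have key := (ProEtS.epsAdj U).counit.naturality f
  have hh := @IsIso.comp_isIso _ _ _ _ _ _ _ hm c₂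
  exact @IsIso.of_isIso_fac_left _ _ _ _ _ _ _ _ c₁ hh key.symm

theorem ess_of_openCover {ι : Type u} (U : ι → X.Opens) (hU : ∀ x, ∃ i, x ∈ U i) (A : ProEtS.AbP X)
    (h : ∀ i, Ess (U i).toScheme ((ProEtS.pullP (U i).ι).obj A)) : Ess X A := by
  let φ := (ProEtS.epsAdj X).counit.app A
  suffices IsIso φ from ess_of_iso (asIso φ)
  have hloc : ∀ (W : X.ProEt) (i : ι), Function.Bijective (φ.hom.app (op (pieceObj W (W.hom ⁻¹ᵁ U i)))) := by
    intro W i
    let O := W.hom ⁻¹ᵁ U i
    haveI := jPCont (U i).ι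
    obtain ⟨θ⟩ := nonempty_restrP_iso (U i).ι
    haveI := isIso_restrP_map_counit (U i).ι A (ess_iso (θ.app A).symm (h i))
    let l : (O : Scheme.{u}) ⟶ (U i).toScheme := IsOpenImmersion.lift (U i).ι (O.ι ≫ W.hom) (by
      rintro _ ⟨w, rfl⟩
      rw [Scheme.Opens.range_ι]
      exact w.2)
    have hl : l ≫ (U i).ι = O.ι ≫ W.hom := IsOpenImmersion.lift_fac _ _ _
    haveI : WeaklyEtale (l ≫ (U i).ι) := by rw [hl]; infer_instance
    haveI : WeaklyEtale l := WeaklyEtale.of_comp l (U i).ι
    let e : (ProEtS.compP (U i).ι).obj (Scheme.ProEt.mk l) ≅ pieceObj W O :=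
      MorphismProperty.Over.isoMk (Iso.refl _) ((Category.id_comp _).trans hl.symm)
    haveI : IsIso ((ProEtS.restrP (U i).ι).map φ).hom :=
      ((sheafToPresheaf _ _).mapIso (asIso ((ProEtS.restrP (U i).ι).map φ))).isIso_hom
    haveI h' : IsIso (φ.hom.app (op ((ProEtS.compP (U i).ι).obj (Scheme.ProEt.mk l)))) :=
      (inferInstance : IsIso (((ProEtS.restrP (U i).ι).map φ).hom.app (op (Scheme.ProEt.mk l))))
    haveI := (NatTrans.isIso_app_iff_of_iso φ.hom e.symm.op).1 h'
    exact (ConcreteCategory.isIso_iff_bijective (φ.hom.app (op (pieceObj W O)))).1 inferInstance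
  have hcov : ∀ W : X.ProEt, Sieve.ofArrows (fun i => pieceObj W (W.hom ⁻¹ᵁ U i))
      (fun i => pieceHom W (W.hom ⁻¹ᵁ U i)) ∈ Scheme.ProEt.topology X W := by
    intro W
    refine Precoverage.generate_mem_toGrothendieck ?_
    simp only [Scheme.ProEt.precoverage, Precoverage.mem_comap_iff, Presieve.map_ofArrows]
    apply Scheme.zariskiPrecoverage_le_propQCPrecoverage
    let E : PreZeroHypercover W.left :=
      ⟨ι, fun i => ((W.hom ⁻¹ᵁ U i : W.left.Opens) : Scheme.{u}), fun i => (W.hom ⁻¹ᵁ U i).ι⟩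
    show E.presieve₀ ∈ Scheme.precoverage @IsOpenImmersion W.left
    rw [Scheme.presieve₀_mem_precoverage_iff]
    exact ⟨fun w => (hU (W.hom w)).imp fun i hi => ⟨⟨w, hi⟩, rfl⟩,
      fun i => (inferInstance : IsOpenImmersion (W.hom ⁻¹ᵁ U i).ι)⟩
  refine (Sheaf.isLocallyBijective_iff_isIso φ).1 ⟨⟨fun {W} x y hxy => ?_⟩, ⟨fun {W} s => ?_⟩⟩
  · refine (Scheme.ProEt.topology X).superset_covering ?_ (hcov W.unop)
    rw [Sieve.ofArrows, Sieve.generate_le_iff, Presieve.ofArrows_le_iff]
    intro i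
    refine (hloc W.unop i).1 ?_
    rw [NatTrans.naturality_apply, NatTrans.naturality_apply]
    exact congrArg _ hxy
  · refine (Scheme.ProEt.topology X).superset_covering ?_ (hcov W)
    rw [Sieve.ofArrows, Sieve.generate_le_iff, Presieve.ofArrows_le_iff]
    exact fun i => (hloc W i).2 _

end Groth.Agent.H18EpsMod
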