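import Groth.Agent.H18EpsMod.Adic
import Groth.Agent.H1EpsS.Derived

/-!
`ε⁻¹` on sheaves of modules is exact and `ε_*` is exact on extensions by pulled back sheaves.
-/

set_option autoImplicit false
set_option backward.isDefEq.respectTransparency false
universe u

open CategoryTheory CategoryTheory.Limits AlgebraicGeometry Opposite

namespace Groth.Agent.H18EpsMod

variable (Λ : Type (u + 1)) [CommRing Λ] (X : Scheme.{u})

theorem preservesFiniteLimits_fgt : PreservesFiniteLimits (fgt Λ X) :=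
  ⟨fun J _ _ =>
    haveI : PreservesLimitsOfShape J (fgt Λ X ⋙ sheafToPresheaf _ _) :=
      inferInstanceAs (PreservesLimitsOfShape J (sheafToPresheaf X.smallEtaleTopology (ModuleCat.{u + 1} Λ) ⋙
        (Functor.whiskeringRight _ _ _).obj (forget₂ (ModuleCat.{u + 1} Λ) AddCommGrpCat.{u + 1})))
    preservesLimitsOfShape_of_reflects_of_preserves _ (sheafToPresheaf _ _)⟩

theorem preservesFiniteLimits_fgtP : PreservesFiniteLimits (fgtP Λ X) :=
  ⟨fun J _ _ =>
    haveI : PreservesLimitsOfShape J (fgtP Λ X ⋙ sheafToPresheaf _ _) :=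
      inferInstanceAs (PreservesLimitsOfShape J (sheafToPresheaf (Scheme.ProEt.topology X) (ModuleCat.{u + 1} Λ) ⋙
        (Functor.whiskeringRight _ _ _).obj (forget₂ (ModuleCat.{u + 1} Λ) AddCommGrpCat.{u + 1})))
    preservesLimitsOfShape_of_reflects_of_preserves _ (sheafToPresheaf _ _)⟩

variable [ProEtS.EpsCont X]

theorem preservesFiniteLimits_epsPullMod : PreservesFiniteLimits (EtModW.epsPullMod Λ X) := by
  haveI := H1EpsS.epsPull_preservesFiniteLimits (X := X)
  haveI := preservesFiniteLimits_fgt Λ X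
  haveI := preservesFiniteLimits_fgtP Λ X
  refine ⟨fun J _ _ => ?_⟩
  haveI : PreservesLimitsOfShape J (EtModW.epsPullMod Λ X ⋙ fgtP Λ X) :=
    preservesLimitsOfShape_of_natIso (cmpIso Λ X)
  haveI : ReflectsLimitsOfShape J (fgtP Λ X) := reflectsLimitsOfShape_of_reflectsIsomorphisms
  exact preservesLimitsOfShape_of_reflects_of_preserves _ (fgtP Λ X)

theorem preservesFiniteColimits_epsPullMod : PreservesFiniteColimits (EtModW.epsPullMod Λ X) := by
  haveI : PreservesColimitsOfSize.{0, 0} (EtModW.epsPullMod Λ X) := (adjMod Λ X).leftAdjoint_preservesColimits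
  infer_instance

/-- `ε_*` keeps short exact sequences whose left term is a pullback exact. -/
theorem shortExact_map_pushMod {S : ShortComplex (EtModW.ModP Λ X)} (hS : S.ShortExact)
    {A : EtModW.Mod Λ X} (e : (EtModW.epsPullMod Λ X).obj A ≅ S.X₁) : (S.map (pushMod Λ X)).ShortExact := by
  haveI := preservesFiniteLimits_fgtP Λ X
  haveI : PreservesFiniteLimits (pushMod Λ X) :=
    have : PreservesLimitsOfSize.{0, 0} (pushMod Λ X) := (adjMod Λ X).rightAdjoint_preservesLimits
    inferInstance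
  haveI : PreservesFiniteLimits (ProEtS.epsPush X) :=
    have : PreservesLimitsOfSize.{0, 0} (ProEtS.epsPush X) := (ProEtS.epsAdj X).rightAdjoint_preservesLimits
    inferInstance
  haveI : (fgtP Λ X).Additive := Functor.additive_of_preserves_binary_products _
  haveI : (ProEtS.epsPush X).Additive := Functor.additive_of_preserves_binary_products _
  haveI := hS.epi_g
  haveI : Epi ((fgtP Λ X).map S.g) := by
    haveI : Sheaf.IsLocallySurjective ((fgtP Λ X).map S.g) :=
      ⟨fun {U} s => ((Sheaf.isLocallySurjective_iff_epi' _ S.g).2 inferInstance).imageSieve_mem (U := U) s⟩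
    exact (Sheaf.isLocallySurjective_iff_epi' _ _).1 inferInstance
  have hS' : (S.map (fgtP Λ X)).ShortExact :=
    H16Derived.AcyclicLES.shortExact_map_of_epi (fgtP Λ X) hS ‹_›
  have hac := H1EpsS.isAcyclic_epsPull ((fgt Λ X).obj A) 1 one_pos
  have hz : IsZero (((ProEtS.epsPush X).rightDerived 1).obj (S.map (fgtP Λ X)).X₁) :=
    hac.of_iso (((ProEtS.epsPush X).rightDerived 1).mapIso ((fgtP Λ X).mapIso e.symm ≪≫ ((cmpIso Λ X).app A).symm))
  haveI h1 := H16Derived.AcyclicLES.epi_map_g (ProEtS.epsPush X) hS' hz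
  haveI : Epi ((fgt Λ X).map ((pushMod Λ X).map S.g)) := h1
  exact H16Derived.AcyclicLES.shortExact_map_of_epi (pushMod Λ X) hS ((fgt Λ X).epi_of_epi_map inferInstance)

theorem exists_preimage_hom {A B : EtModW.Mod Λ X}
    (φ : (EtModW.epsPullMod Λ X).obj A ⟶ (EtModW.epsPullMod Λ X).obj B) :
    ∃ ψ : A ⟶ B, (EtModW.epsPullMod Λ X).map ψ = φ :=
  haveI := (full_faithful Λ X).1
  ⟨_, (EtModW.epsPullMod Λ X).map_preimage φ⟩

/-- An extension of pulled back sheaves is pulled back from the étale site. -/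
theorem exists_extension {S : ShortComplex (EtModW.ModP Λ X)} (hS : S.ShortExact)
    {A B : EtModW.Mod Λ X} (eA : (EtModW.epsPullMod Λ X).obj A ≅ S.X₁)
    (eB : (EtModW.epsPullMod Λ X).obj B ≅ S.X₃) :
    ∃ T : ShortComplex (EtModW.Mod Λ X), T.ShortExact ∧ Nonempty (T.X₁ ≅ A) ∧ Nonempty (T.X₃ ≅ B) ∧
      Nonempty ((EtModW.epsPullMod Λ X).obj T.X₂ ≅ S.X₂) := by
  have hT := shortExact_map_pushMod Λ X hS eA
  haveI := preservesFiniteLimits_epsPullMod Λ X
  haveI := preservesFiniteColimits_epsPullMod Λ X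
  haveI : (EtModW.epsPullMod Λ X).Additive := (adjMod Λ X).left_adjoint_additive
  haveI : ∀ M, IsIso ((adjMod Λ X).unit.app M) := fun M => isIso_unit Λ M
  have hci : ∀ (M : EtModW.Mod Λ X) (N : EtModW.ModP Λ X) (i : (EtModW.epsPullMod Λ X).obj M ≅ N),
      IsIso ((adjMod Λ X).counit.app N) := by
    intro M N i
    haveI : IsIso ((adjMod Λ X).counit.app ((EtModW.epsPullMod Λ X).obj M)) := by
      exact IsIso.of_isIso_fac_left ((adjMod Λ X).left_triangle_components M)
    exact (NatTrans.isIso_app_iff_of_iso (adjMod Λ X).counit i).1 inferInstance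
  haveI := hci A _ eA
  haveI := hci B _ eB
  let σ : (S.map (pushMod Λ X)).map (EtModW.epsPullMod Λ X) ⟶ S :=
    ShortComplex.homMk ((adjMod Λ X).counit.app S.X₁) ((adjMod Λ X).counit.app S.X₂)
      ((adjMod Λ X).counit.app S.X₃) ((adjMod Λ X).counit.naturality S.f).symm
      ((adjMod Λ X).counit.naturality S.g).symm
  haveI : IsIso σ.τ₁ := inferInstanceAs (IsIso ((adjMod Λ X).counit.app S.X₁))
  haveI : IsIso σ.τ₃ := inferInstanceAs (IsIso ((adjMod Λ X).counit.app S.X₃))
  haveI := ShortComplex.isIso₂_of_shortExact_of_isIso₁₃ σ (hT.map_of_exact _) hS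
  exact ⟨_, hT, ⟨(pushMod Λ X).mapIso eA.symm ≪≫ (asIso ((adjMod Λ X).unit.app A)).symm⟩,
    ⟨(pushMod Λ X).mapIso eB.symm ≪≫ (asIso ((adjMod Λ X).unit.app B)).symm⟩, ⟨asIso σ.τ₂⟩⟩

end Groth.Agent.H18EpsMod
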