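import Mathlib.Algebra.Module.LinearMap.Basic
import Mathlib.Algebra.Ring.Basic
import Mathlib.Tactic.Ring
import Mathlib.Tactic.Abel
import Mathlib.Tactic.Linarith

/-!
Extensions of modules complete along an element.
-/

set_option autoImplicit false
universe w

namespace Groth.Agent.H18EpsMod

variable {R : Type w} [CommRing R] {F G H : Type w} [AddCommGroup F] [Module R F] [AddCommGroup G] [Module R G]
  [AddCommGroup H] [Module R H]

/-- `g` is divisible by `a ^ (n + 1)`. -/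
def Dv (a : R) (n : ℕ) (g : G) : Prop := ∃ y : G, a ^ (n + 1) • y = g

theorem Dv.sub {a : R} {n : ℕ} {g g' : G} (h : Dv a n g) (h' : Dv a n g') : Dv a n (g - g') := by
  obtain ⟨y, rfl⟩ := h; obtain ⟨y', rfl⟩ := h'
  exact ⟨y - y', smul_sub _ _ _⟩

theorem Dv.add {a : R} {n : ℕ} {g g' : G} (h : Dv a n g) (h' : Dv a n g') : Dv a n (g + g') := by
  obtain ⟨y, rfl⟩ := h; obtain ⟨y', rfl⟩ := h'
  exact ⟨y + y', smul_add _ _ _⟩

theorem Dv.mono {a : R} {n m : ℕ} (hnm : n ≤ m) {g : G} (h : Dv a m g) : Dv a n g := by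
  obtain ⟨y, rfl⟩ := h
  exact ⟨a ^ (m - n) • y, by rw [smul_smul, ← pow_add]; congr 2; omega⟩

theorem Dv.map {a : R} {n : ℕ} {g : G} (f : G →ₗ[R] H) (h : Dv a n g) : Dv a n (f g) := by
  obtain ⟨y, rfl⟩ := h
  exact ⟨f y, (map_smul f _ _).symm⟩

variable (a : R) (i : F →ₗ[R] G) (q : G →ₗ[R] H)

/-- An extension of complete modules with bounded torsion quotient is complete. -/
theorem complete_of_extension (hi : Function.Injective i) (hq : Function.Surjective q)
    (hqi : ∀ f, q (i f) = 0) (hex : ∀ g, q g = 0 → ∃ f, i f = g) (c : ℕ)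
    (hc : ∀ (m : ℕ) (h : H), c ≤ m → a ^ m • h = 0 → a ^ c • h = 0)
    (hFs : ∀ f : F, (∀ n : ℕ, Dv a n f) → f = 0) (hHs : ∀ h : H, (∀ n : ℕ, Dv a n h) → h = 0)
    (hFc : ∀ f : ℕ → F, (∀ n, Dv a n (f (n + 1) - f n)) → ∃ x, ∀ n, Dv a n (x - f n))
    (hHc : ∀ h : ℕ → H, (∀ n, Dv a n (h (n + 1) - h n)) → ∃ x, ∀ n, Dv a n (x - h n)) :
    (∀ g : G, (∀ n : ℕ, Dv a n g) → g = 0) ∧
    (∀ g : ℕ → G, (∀ n, Dv a n (g (n + 1) - g n)) → ∃ x, ∀ n, Dv a n (x - g n)) := by
  have key : ∀ (n : ℕ) (f : F), Dv a (n + c) (i f) → Dv a n f := by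
    rintro n f ⟨x, hx⟩
    obtain ⟨f', hf'⟩ := hex (a ^ c • x) (by
      rw [map_smul]
      exact hc (n + c + 1) _ (by omega) (by rw [← map_smul, hx, hqi]))
    refine ⟨f', hi ?_⟩
    rw [map_smul, hf', smul_smul, ← pow_add, ← hx]
    congr 2
    omega
  refine ⟨fun g hg => ?_, fun g hg => ?_⟩
  · obtain ⟨f, rfl⟩ := hex g (hHs _ fun n => (hg n).map q)
    rw [hFs f fun n => key n f (hg (n + c)), map_zero]
  · obtain ⟨h, hh⟩ := hHc (fun n => q (g n)) fun n => by
      rw [← map_sub]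
      exact (hg n).map q
    obtain ⟨x, rfl⟩ := hq h
    have hf : ∀ n, ∃ f : F, Dv a n (g n - x - i f) := by
      intro n
      obtain ⟨y, hy⟩ := hh n
      obtain ⟨z, rfl⟩ := hq y
      obtain ⟨f, hf⟩ := hex (g n - x + a ^ (n + 1) • z) (by rw [map_add, map_sub, map_smul, hy]; abel)
      exact ⟨f, -z, by rw [hf, smul_neg]; abel⟩
    choose f hf using hf
    obtain ⟨f₀, hf₀⟩ := hFc (fun n => f (n + c)) fun n => key n _ (by
      rw [map_sub]
      have h1 : Dv a (n + c) (g (n + 1 + c) - x - i (f (n + 1 + c))) := (hf (n + 1 + c)).mono (by omega)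
      have h2 : Dv a (n + c) (g (n + 1 + c) - g (n + c)) := by
        rw [show n + 1 + c = n + c + 1 by omega]
        exact hg (n + c)
      have e : i (f (n + 1 + c)) - i (f (n + c)) = (g (n + 1 + c) - g (n + c)) -
          (g (n + 1 + c) - x - i (f (n + 1 + c))) + (g (n + c) - x - i (f (n + c))) := by abel
      rw [e]
      exact (h2.sub h1).add (hf (n + c)))
    refine ⟨x + i f₀, fun n => ?_⟩
    have hgm : ∀ k, Dv a n (g (n + k) - g n) := by
      intro k
      induction k with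
      | zero => exact ⟨0, by simp⟩
      | succ k ih =>
        rw [show g (n + (k + 1)) - g n = (g (n + k + 1) - g (n + k)) + (g (n + k) - g n) by
          rw [sub_add_sub_cancel]; rfl]
        exact ((hg (n + k)).mono (by omega)).add ih
    have e : x + i f₀ - g n = (i (f₀ - f (n + c))) - (g (n + c) - x - i (f (n + c))) + (g (n + c) - g n) := by
      rw [map_sub]; abel
    rw [e]
    exact (((hf₀ n).map i).sub ((hf (n + c)).mono (Nat.le_add_right n c))).add (hgm c)

end Groth.Agent.H18EpsMod
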