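import Groth.Agent.H18Adic.LimQuot

/-!
Surjectivity of limits of towers of pro-étale sheaves under a Mittag-Leffler condition.
-/

set_option autoImplicit false
set_option backward.isDefEq.respectTransparency false
universe u

open CategoryTheory CategoryTheory.Limits AlgebraicGeometry Opposite

namespace Groth.Agent.H18EpsMod

open H18Adic (secF)

variable {Λ : Type (u + 1)} [CommRing Λ] {X : Scheme.{u}}

/-- Exactness on sections over weakly contractible objects. -/
theorem exists_preimage_section {S : ShortComplex (EtModW.ModP Λ X)} (hS : S.Exact) {V : X.ProEt}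
    (hV : ProEtS.IsWC V) (x : (secF V).obj S.X₂) (hx : ((secF V).map S.g).hom x = 0) :
    ∃ a, ((secF V).map S.f).hom a = x := by
  obtain ⟨z, hz⟩ := H18Adic.exists_kernel_section S.g V x hx
  haveI : Epi (kernel.lift S.g S.f S.zero) := hS.epi_kernelLift
  obtain ⟨a, ha⟩ := H1DC.surjective_of_epi hV (kernel.lift S.g S.f S.zero) z
  refine ⟨a, ?_⟩
  conv_lhs => rw [← kernel.lift_ι S.g S.f S.zero, Functor.map_comp]
  change ((secF V).map (kernel.ι S.g)).hom (((secF V).map (kernel.lift S.g S.f S.zero)).hom a) = x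
  rw [show ((secF V).map (kernel.lift S.g S.f S.zero)).hom a = z from ha, hz]

theorem sec_comp {A B C : EtModW.ModP Λ X} {V : X.ProEt} (p : A ⟶ B) (q : B ⟶ C) (a : (secF V).obj A) :
    ((secF V).map q).hom (((secF V).map p).hom a) = ((secF V).map (p ≫ q)).hom a := by
  rw [Functor.map_comp]
  rfl

theorem sec_zero {A B : EtModW.ModP Λ X} {V : X.ProEt} (a : (secF V).obj A) :
    ((secF V).map (0 : A ⟶ B)).hom a = 0 := rfl

/-- The limit of a termwise epimorphism is an epimorphism when its kernel is, up to translation, covered by a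
system with epimorphic transition maps. -/
theorem epi_limMap {B C Y : ℕᵒᵖ ⥤ EtModW.ModP Λ X} (φ : B ⟶ C) (hφ : ∀ n : ℕ, Epi (φ.app (op n)))
    (k : Y ⟶ B) (hk : k ≫ φ = 0) (hY : ∀ (n m : ℕ) (h : n ≤ m), Epi (ARSys.tr Y h)) (r : ℕ)
    (h : ∀ (n : ℕ) (V : X.ProEt), ProEtS.IsWC V → ∀ b : (secF V).obj (B.obj (op (n + r))),
      ((secF V).map (φ.app (op (n + r)))).hom b = 0 →
        ∃ y, ((secF V).map (k.app (op n))).hom y = ((secF V).map (ARSys.shiftMap B r n)).hom b) :
    Epi (limMap φ) := by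
  refine H1DC.epi_of_surjective _ fun V _ hV c => ?_
  let E := secF (Λ := Λ) V
  let cn : ∀ n : ℕ, E.obj (C.obj (op n)) := fun n => (E.map (limit.π C (op n))).hom c
  have hc : ∀ (n m : ℕ) (hm : n ≤ m), (E.map (ARSys.tr C hm)).hom (cn m) = cn n := fun n m hm =>
    (sec_comp _ _ c).trans (congrArg (fun f => (E.map f).hom c) (limit.w C (homOfLE hm).op))
  have hb' : ∀ n : ℕ, ∃ b : E.obj (B.obj (op (n + r))), (E.map (φ.app (op (n + r)))).hom b = cn (n + r) :=
    fun n => H1DC.surjective_of_epi hV (φ.app (op (n + r))) (cn (n + r))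
  choose b hb using hb'
  let β : ∀ n : ℕ, E.obj (B.obj (op n)) := fun n => (E.map (ARSys.tr B (Nat.le_add_right n r))).hom (b n)
  have htr : ∀ {i j k : ℕ} (hij : i ≤ j) (hjk : j ≤ k) (Z : ℕᵒᵖ ⥤ EtModW.ModP Λ X) (z : E.obj (Z.obj (op k))),
      (E.map (ARSys.tr Z hij)).hom ((E.map (ARSys.tr Z hjk)).hom z) = (E.map (ARSys.tr Z (hij.trans hjk))).hom z :=
    fun hij hjk Z z => (sec_comp _ _ z).trans (congrArg (fun f => (E.map f).hom z)
      ((Z.map_comp _ _).symm.trans (congrArg Z.map rfl)))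
  have hnat : ∀ {i j : ℕ} (hij : i ≤ j) (z : E.obj (B.obj (op j))),
      (E.map (φ.app (op i))).hom ((E.map (ARSys.tr B hij)).hom z) =
        (E.map (ARSys.tr C hij)).hom ((E.map (φ.app (op j))).hom z) := fun hij z =>
    (sec_comp _ _ z).trans ((congrArg (fun f => (E.map f).hom z) (φ.naturality (homOfLE hij).op)).trans
      (sec_comp _ _ z).symm)
  have hkn : ∀ {i j : ℕ} (hij : i ≤ j) (z : E.obj (Y.obj (op j))),
      (E.map (k.app (op i))).hom ((E.map (ARSys.tr Y hij)).hom z) =
        (E.map (ARSys.tr B hij)).hom ((E.map (k.app (op j))).hom z) := fun hij z =>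
    (sec_comp _ _ z).trans ((congrArg (fun f => (E.map f).hom z) (k.naturality (homOfLE hij).op)).trans
      (sec_comp _ _ z).symm)
  have hk0 : ∀ (n : ℕ) (y : E.obj (Y.obj (op n))), (E.map (φ.app (op n))).hom ((E.map (k.app (op n))).hom y) = 0 :=
    fun n y => by
      rw [sec_comp, ← NatTrans.comp_app, hk]
      rfl
  have hd : ∀ n : ℕ, ∃ y, (E.map (k.app (op n))).hom y = (E.map (ARSys.tr B (Nat.le_succ n))).hom (β (n + 1)) - β n := by
    intro n
    have hle : n + r ≤ n + 1 + r := by omega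
    obtain ⟨y, hy⟩ := h n V hV ((E.map (ARSys.tr B hle)).hom (b (n + 1)) - b n) (by
      have e1 : (E.map (φ.app (op (n + 1 + r)))).hom (b (n + 1)) = cn (n + 1 + r) := hb (n + 1)
      have e2 : (E.map (φ.app (op (n + r)))).hom (b n) = cn (n + r) := hb n
      rw [map_sub, hnat, e1, e2, hc, sub_self])
    refine ⟨y, hy.trans ?_⟩
    rw [map_sub]
    congr 1
    exact (htr _ _ B _).trans (htr (Nat.le_succ n) (Nat.le_add_right (n + 1) r) B _).symm
  choose y hy using hd
  have hs : ∀ (n : ℕ) (z : E.obj (Y.obj (op n))), ∃ z', (E.map (ARSys.tr Y (Nat.le_succ n))).hom z' = z - y n :=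
    fun n z => haveI := hY n (n + 1) (Nat.le_succ n); H1DC.surjective_of_epi hV (ARSys.tr Y (Nat.le_succ n)) (z - y n)
  choose s hs' using hs
  let z : ∀ n : ℕ, E.obj (Y.obj (op n)) := fun n => Nat.rec 0 (fun n z => s n z) n
  let w : ∀ n : ℕ, E.obj (B.obj (op n)) := fun n => β n + (E.map (k.app (op n))).hom (z n)
  have hw1 : ∀ n, (E.map (ARSys.tr B (Nat.le_succ n))).hom (w (n + 1)) = w n := fun n => by
    change (E.map (ARSys.tr B (Nat.le_succ n))).hom (β (n + 1) + (E.map (k.app (op (n + 1)))).hom (s n (z n))) = _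
    rw [map_add, ← hkn, hs', map_sub, hy]
    change _ = β n + (E.map (k.app (op n))).hom (z n)
    abel
  have hw : ∀ (n m : ℕ) (hm : n ≤ m), (E.map (ARSys.tr B hm)).hom (w m) = w n := by
    intro n m hm
    induction hm with
    | refl =>
      rw [show ARSys.tr B (le_refl n) = 𝟙 _ from B.map_id _, E.map_id]
      rfl
    | @step m hm ih => rw [← htr hm (Nat.le_succ m) B, hw1, ih]
  let hB := isLimitOfPreserves (E ⋙ forget (ModuleCat.{u + 1} Λ)) (limit.isLimit B)
  let hC := isLimitOfPreserves (E ⋙ forget (ModuleCat.{u + 1} Λ)) (limit.isLimit C)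
  let σ : (B ⋙ E ⋙ forget (ModuleCat.{u + 1} Λ)).sections :=
    ⟨fun j => w j.unop, fun {j m} f => hw _ _ (leOfHom f.unop)⟩
  refine ⟨(Types.isLimitEquivSections hB).symm σ, (Types.isLimitEquivSections hC).injective
    (Subtype.ext (funext fun j => ?_))⟩
  change (E.map (limit.π C j)).hom ((E.map (limMap φ)).hom ((Types.isLimitEquivSections hB).symm σ)) = cn j.unop
  refine (sec_comp _ _ _).trans ?_
  rw [limMap_π]
  refine (sec_comp _ _ _).symm.trans ?_
  have e : (E.map (limit.π B j)).hom ((Types.isLimitEquivSections hB).symm σ) = w j.unop :=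
    Types.isLimitEquivSections_symm_apply hB σ j
  refine (congrArg (E.map (φ.app j)).hom e).trans ?_
  change (E.map (φ.app (op j.unop))).hom (β j.unop + (E.map (k.app (op j.unop))).hom (z j.unop)) = _
  simp only [β]
  rw [map_add, hk0, add_zero, hnat]
  have e1 : (E.map (φ.app (op (j.unop + r)))).hom (b j.unop) = cn (j.unop + r) := hb j.unop
  rw [e1, hc]

end Groth.Agent.H18EpsMod
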