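import Groth.Agent.H18EpsMod.LimExact
import Groth.Agent.H18EpsMod.Exact

/-!
The functor `lim ε⁻¹` on systems of étale sheaves: exactness and invariance under isomorphisms up to translation.
-/

set_option autoImplicit false
set_option backward.isDefEq.respectTransparency false
universe u

open CategoryTheory CategoryTheory.Limits AlgebraicGeometry Opposite
open ZeroObject

namespace Groth.Agent.H18EpsMod

variable (Λ : Type (u + 1)) [CommRing Λ] (X : Scheme.{u}) [ProEtS.EpsCont X]

/-- `lim ε⁻¹`. -/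
noncomputable abbrev limEps : ARSys.PS (EtModW.Mod Λ X) ⥤ EtModW.ModP Λ X :=
  (Functor.whiskeringRight ℕᵒᵖ (EtModW.Mod Λ X) (EtModW.ModP Λ X)).obj (EtModW.epsPullMod Λ X) ⋙ lim

theorem preservesFiniteLimits_limEps : PreservesFiniteLimits (limEps Λ X) := by
  haveI := preservesFiniteLimits_epsPullMod Λ X
  haveI : PreservesLimitsOfSize.{0, 0} (lim : (ℕᵒᵖ ⥤ EtModW.ModP Λ X) ⥤ EtModW.ModP Λ X) :=
    constLimAdj.rightAdjoint_preservesLimits
  refine ⟨fun J _ _ => ?_⟩
  haveI : PreservesLimitsOfShape J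
      ((Functor.whiskeringRight ℕᵒᵖ (EtModW.Mod Λ X) (EtModW.ModP Λ X)).obj (EtModW.epsPullMod Λ X)) :=
    whiskeringRight_preservesLimitsOfShape _
  infer_instance

/-- A short exact sequence stays exact on limits when the left term is covered, up to translation, by a system
with epimorphic transition maps. -/
theorem epi_limEps {S : ShortComplex (ARSys.PS (EtModW.Mod Λ X))} (hS : S.ShortExact)
    {Y : ARSys.PS (EtModW.Mod Λ X)} (v : Y ⟶ S.X₁) (hv : ARSys.IsARNull (cokernel v))
    (hY : ∀ (n m : ℕ) (h : n ≤ m), Epi (ARSys.tr Y h)) : Epi ((limEps Λ X).map S.g) := by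
  obtain ⟨r, hr⟩ := hv
  let L := EtModW.epsPullMod Λ X
  haveI := preservesFiniteLimits_epsPullMod Λ X
  haveI := preservesFiniteColimits_epsPullMod Λ X
  haveI : L.Additive := (adjMod Λ X).left_adjoint_additive
  let ev : ℕ → ARSys.PS (EtModW.Mod Λ X) ⥤ EtModW.ModP Λ X := fun n => (evaluation ℕᵒᵖ _).obj (op n) ⋙ L
  have hex : ∀ n, (S.map (ev n)).ShortExact := fun n =>
    (hS.map_of_exact ((evaluation ℕᵒᵖ (EtModW.Mod Λ X)).obj (op n))).map_of_exact L
  let T : ShortComplex (ARSys.PS (EtModW.Mod Λ X)) := ShortComplex.mk v (cokernel.π v) (cokernel.condition v)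
  have hT : ∀ n, (T.map (ev n)).Exact := fun n =>
    ((ShortComplex.exact_of_g_is_cokernel T (cokernelIsCokernel v)).map
      ((evaluation ℕᵒᵖ (EtModW.Mod Λ X)).obj (op n))).map L
  change Epi (limMap (Functor.whiskerRight S.g L))
  refine epi_limMap (Y := Y ⋙ L) _ (fun n => (hex n).epi_g) (Functor.whiskerRight (v ≫ S.f) L) ?_ ?_ r ?_
  · rw [← Functor.whiskerRight_comp, Category.assoc, S.zero, comp_zero]
    ext n : 2
    exact L.map_zero _ _
  · intro n m h
    haveI := hY n m h
    exact inferInstanceAs (Epi (L.map (ARSys.tr Y h)))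
  · intro n V hV b hb
    obtain ⟨a, rfl⟩ := exists_preimage_section (hex (n + r)).exact hV b hb
    let a' := ((H18Adic.secF V).map (L.map (ARSys.shiftMap S.X₁ r n))).hom a
    have e : L.map (ARSys.shiftMap S.X₁ r n) ≫ L.map ((cokernel.π v).app (op n)) = 0 := by
      refine (L.map_comp _ _).symm.trans ((congrArg L.map ?_).trans (L.map_zero _ _))
      refine ((cokernel.π v).naturality (homOfLE (Nat.le_add_right n r)).op).trans ?_
      exact (congrArg (_ ≫ ·) (hr n)).trans comp_zero
    obtain ⟨y, hy⟩ := exists_preimage_section (hT n) hV a' (by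
      refine (sec_comp _ _ a).trans ?_
      exact congrArg (fun f => ((H18Adic.secF V).map f).hom a) e)
    refine ⟨y, ?_⟩
    change ((H18Adic.secF V).map (L.map ((v ≫ S.f).app (op n)))).hom y = _
    rw [NatTrans.comp_app, L.map_comp, ← sec_comp]
    refine (congrArg _ hy).trans ?_
    refine (sec_comp _ _ a).trans (Eq.trans ?_ (sec_comp _ _ a).symm)
    refine congrArg (fun f => ((H18Adic.secF V).map f).hom a) ?_
    exact (L.map_comp _ _).symm.trans ((congrArg L.map (S.f.naturality (homOfLE (Nat.le_add_right n r)).op)).trans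
      (L.map_comp _ _))

theorem isZero_limEps_of_isARNull {Z : ARSys.PS (EtModW.Mod Λ X)} (hZ : ARSys.IsARNull Z) :
    IsZero ((limEps Λ X).obj Z) := by
  obtain ⟨r, hr⟩ := hZ
  haveI : (EtModW.epsPullMod Λ X).Additive := (adjMod Λ X).left_adjoint_additive
  rw [IsZero.iff_id_eq_zero]
  change 𝟙 (limit (Z ⋙ EtModW.epsPullMod Λ X)) = 0
  refine limit.hom_ext fun n => ?_
  rw [Category.id_comp, zero_comp]
  refine (limit.w (Z ⋙ EtModW.epsPullMod Λ X) (homOfLE (Nat.le_add_right n.unop r)).op).symm.trans ?_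
  exact (congrArg (_ ≫ ·) ((congrArg (EtModW.epsPullMod Λ X).map (hr n.unop)).trans
    (Functor.map_zero _ _ _))).trans comp_zero

theorem isARNull_of_isZero {Z : ARSys.PS (EtModW.Mod Λ X)} (h : IsZero Z) : ARSys.IsARNull Z :=
  ⟨0, fun n => (((evaluation ℕᵒᵖ (EtModW.Mod Λ X)).obj (op n)).map_isZero h).eq_of_tgt _ _⟩

theorem isARNull_of_iso {Z Z' : ARSys.PS (EtModW.Mod Λ X)} (e : Z ≅ Z') (hZ : ARSys.IsARNull Z) :
    ARSys.IsARNull Z' := by
  obtain ⟨r, hr⟩ := hZ
  refine ⟨r, fun n => ?_⟩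
  haveI : IsIso (e.hom.app (op (n + r))) := inferInstance
  refine (cancel_epi (e.hom.app (op (n + r)))).1 ?_
  exact (e.hom.naturality (homOfLE (Nat.le_add_right n r)).op).symm.trans
    (((congrArg (· ≫ e.hom.app (op n)) (hr n)).trans zero_comp).trans comp_zero.symm)

/-- The image factorisation as a short exact sequence. -/
theorem shortExact_image {C : Type*} [Category C] [Abelian C] {A B : C} (f : A ⟶ B) :
    (ShortComplex.mk (kernel.ι f) (kernel.lift (cokernel.π f) f (cokernel.condition f)) (by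
      rw [← cancel_mono (kernel.ι (cokernel.π f)), Category.assoc, kernel.lift_ι, kernel.condition, zero_comp])).ShortExact where
  exact := by
    refine ShortComplex.exact_of_f_is_kernel _ (KernelFork.IsLimit.ofι _ _ (fun {W} g hg => kernel.lift f g (by
      rw [← kernel.lift_ι (cokernel.π f) f (cokernel.condition f), ← Category.assoc, hg, zero_comp]))
      (fun g hg => kernel.lift_ι _ _ _) (fun g hg m hm => ?_))
    rw [← cancel_mono (kernel.ι f), hm, kernel.lift_ι]
  mono_f := inferInstanceAs (Mono (kernel.ι f))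
  epi_g := inferInstanceAs (Epi (Abelian.factorThruImage f))

theorem shortExact_image_cokernel {C : Type*} [Category C] [Abelian C] {A B : C} (f : A ⟶ B) :
    (ShortComplex.mk (kernel.ι (cokernel.π f)) (cokernel.π f) (kernel.condition _)).ShortExact where
  exact := ShortComplex.exact_of_f_is_kernel _ (kernelIsKernel _)

theorem isIso_limEps_of_isARIso {Y K : ARSys.PS (EtModW.Mod Λ X)} (v : Y ⟶ K) (hv : ARSys.IsARIso v) :
    IsIso ((limEps Λ X).map v) := by
  let Φ := limEps Λ X
  haveI := preservesFiniteLimits_limEps Λ X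
  haveI : Φ.Additive := Functor.additive_of_preserves_binary_products _
  haveI : Mono (Φ.map v) := by
    refine Preadditive.mono_of_isZero_kernel _ ?_
    exact (isZero_limEps_of_isARNull Λ X hv.1).of_iso (PreservesKernel.iso Φ v).symm
  let e := kernel.lift (cokernel.π v) v (cokernel.condition v)
  let m := kernel.ι (cokernel.π v)
  haveI : Epi (Φ.map e) := epi_limEps Λ X (shortExact_image v) (0 : (0 : ARSys.PS (EtModW.Mod Λ X)) ⟶ _)
    (isARNull_of_iso Λ X cokernelZeroIsoTarget.symm hv.1)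
    (fun n k h => ⟨fun a b _ => (((evaluation ℕᵒᵖ (EtModW.Mod Λ X)).obj (op n)).map_isZero (isZero_zero _)).eq_of_src a b⟩)
  haveI : IsIso (Φ.map m) := by
    have hz : Φ.map (cokernel.π v) = 0 := (isZero_limEps_of_isARNull Λ X hv.2).eq_of_tgt _ _
    have hk := KernelFork.mapIsLimit _ (kernelIsKernel (cokernel.π v)) Φ
    exact Limits.KernelFork.IsLimit.isIso_ι _ hk hz
  haveI : Epi (Φ.map v) := by
    rw [show v = e ≫ m from (kernel.lift_ι _ _ _).symm, Φ.map_comp]
    infer_instance
  exact isIso_of_mono_of_epi _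

/-- `lim ε⁻¹` commutes with cokernels of morphisms out of systems with epimorphic transition maps. -/
theorem nonempty_cokernel_iso {G H : ARSys.PS (EtModW.Mod Λ X)} (ψ : G ⟶ H)
    (hG : ∀ (n m : ℕ) (h : n ≤ m), Epi (ARSys.tr G h))
    {Y : ARSys.PS (EtModW.Mod Λ X)} (v : Y ⟶ kernel ψ) (hv : ARSys.IsARNull (cokernel v))
    (hY : ∀ (n m : ℕ) (h : n ≤ m), Epi (ARSys.tr Y h)) :
    Nonempty (cokernel ((limEps Λ X).map ψ) ≅ (limEps Λ X).obj (cokernel ψ)) := by
  let Φ := limEps Λ X
  haveI := preservesFiniteLimits_limEps Λ X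
  haveI : Φ.Additive := Functor.additive_of_preserves_binary_products _
  let e := kernel.lift (cokernel.π ψ) ψ (cokernel.condition ψ)
  let m := kernel.ι (cokernel.π ψ)
  haveI he : Epi (Φ.map e) := epi_limEps Λ X (shortExact_image ψ) v hv hY
  haveI : Epi e := (shortExact_image ψ).epi_g
  haveI : Epi (Φ.map (cokernel.π ψ)) := epi_limEps Λ X (shortExact_image_cokernel ψ) e
    (isARNull_of_isZero Λ X (isZero_cokernel_of_epi e)) hG
  have hk : IsLimit (KernelFork.ofι (Φ.map m) ((Φ.map_comp _ _).symm.trans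
      ((congrArg Φ.map (kernel.condition (cokernel.π ψ))).trans (Φ.map_zero _ _))) :
      KernelFork (Φ.map (cokernel.π ψ))) :=
    KernelFork.mapIsLimit _ (kernelIsKernel (cokernel.π ψ)) Φ
  let T := ShortComplex.mk (Φ.map m) (Φ.map (cokernel.π ψ)) ((Φ.map_comp _ _).symm.trans
    ((congrArg Φ.map (kernel.condition (cokernel.π ψ))).trans (Φ.map_zero _ _)))
  haveI : Epi T.g := ‹Epi (Φ.map (cokernel.π ψ))›
  have hT := (ShortComplex.exact_of_f_is_kernel T hk).gIsCokernel
  exact ⟨cokernelIsoOfEq ((congrArg Φ.map (kernel.lift_ι _ _ _).symm).trans (Φ.map_comp e m)) ≪≫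
    cokernelEpiComp (Φ.map e) (Φ.map m) ≪≫ (cokernelIsCokernel _).coconePointUniqueUpToIso hT⟩

end Groth.Agent.H18EpsMod
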