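import Groth.Agent.H18EpsMod.Adic
import Groth.Agent.H18EpsMod.LimExact
import Groth.Agent.H18EpsMod.ExtModules
import Groth.Agent.S14017
import Groth.Agent.S14019
import Groth.Agent.S14010
import Groth.Agent.S14013
import Groth.Agent.S14014
import Mathlib.Algebra.Homology.ShortComplex.SnakeLemma
import Mathlib.RingTheory.Ideal.Operations

/-!
Extensions of adic pro-étale sheaves along a principal ideal.
-/

set_option autoImplicit false
set_option backward.isDefEq.respectTransparency false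
universe w v u

open CategoryTheory CategoryTheory.Limits AlgebraicGeometry Opposite

namespace Groth.Agent.H18EpsMod

section Quot

variable {A : Type w} [CommRing A] {C : Type u} [Category.{v} C] [Abelian C] [Linear A C]

theorem isQuot_cokernel_smul (b : A) (G : C) :
    ARSys.IsQuot (Ideal.span {b}) (cokernel.π (b • 𝟙 G)) := by
  refine ⟨fun c hc => ?_, fun Y φ hφ => ?_⟩
  · obtain ⟨d, rfl⟩ := Ideal.mem_span_singleton'.1 hc
    rw [← cancel_epi (cokernel.π (b • 𝟙 G)), Linear.comp_smul, Category.comp_id, comp_zero, mul_smul]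
    have h := cokernel.condition (b • 𝟙 G)
    rw [Linear.smul_comp, Category.id_comp] at h
    rw [h, smul_zero]
  · have h : (b • 𝟙 G) ≫ φ = 0 := by
      rw [Linear.smul_comp, Category.id_comp]
      exact hφ b (Ideal.mem_span_singleton_self b)
    exact ⟨cokernel.desc _ φ h, cokernel.π_desc _ _ _, fun w hw => by
      rw [← cancel_epi (cokernel.π (b • 𝟙 G))]; simp [hw]⟩

theorem nonempty_iso_of_isQuot {I : Ideal A} {X Q Q' : C} {p : X ⟶ Q} {p' : X ⟶ Q'}
    (h : ARSys.IsQuot I p) (h' : ARSys.IsQuot I p') : Nonempty (Q ≅ Q') := by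
  haveI := epi_of_isQuot h
  haveI := epi_of_isQuot h'
  obtain ⟨s, hs, -⟩ := h.2 Q' p' (fun c hc => by rw [← Category.comp_id p', ← Linear.comp_smul, h'.1 c hc, comp_zero])
  obtain ⟨t, ht, -⟩ := h'.2 Q p (fun c hc => by rw [← Category.comp_id p, ← Linear.comp_smul, h.1 c hc, comp_zero])
  exact ⟨⟨s, t, (cancel_epi p).1 (by rw [← Category.assoc, hs, ht, Category.comp_id]),
    (cancel_epi p').1 (by rw [← Category.assoc, ht, hs, Category.comp_id])⟩⟩

/-- Multiplication by a scalar as an endomorphism of a short complex. -/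
noncomputable def smulSC (b : A) (S : ShortComplex C) : S ⟶ S :=
  ShortComplex.homMk (b • 𝟙 _) (b • 𝟙 _) (b • 𝟙 _)
    (by rw [Linear.smul_comp, Linear.comp_smul, Category.id_comp, Category.comp_id])
    (by rw [Linear.smul_comp, Linear.comp_smul, Category.id_comp, Category.comp_id])

/-- The cokernel of multiplication on the middle term of an extension lies in a weak Serre subcategory when those
of the outer terms and the torsion of the right term do. -/
theorem prop_cokernel_smul (P : ObjectProperty C) [WSerre.IsWeakSerre P] {S : ShortComplex C}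
    (hS : S.ShortExact) (b : A) (h₁ : P (cokernel (b • 𝟙 S.X₁))) (h₃ : P (cokernel (b • 𝟙 S.X₃)))
    (ht : P (kernel (b • 𝟙 S.X₃))) : P (cokernel (b • 𝟙 S.X₂)) := by
  let φ := smulSC b S
  let D : ShortComplex.SnakeInput C :=
    { L₀ := kernel φ
      L₁ := S
      L₂ := S
      L₃ := cokernel φ
      v₀₁ := kernel.ι φ
      v₁₂ := φ
      v₂₃ := cokernel.π φ
      w₀₂ := kernel.condition φ
      w₁₃ := cokernel.condition φ
      h₀ := kernelIsKernel φ
      h₃ := cokernelIsCokernel φ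
      L₁_exact := hS.exact
      epi_L₁_g := hS.epi_g
      L₂_exact := hS.exact
      mono_L₂_f := hS.mono_f }
  let e₁ : (cokernel φ).X₁ ≅ cokernel (b • 𝟙 S.X₁) := PreservesCokernel.iso ShortComplex.π₁ φ
  let e₂ : (cokernel φ).X₂ ≅ cokernel (b • 𝟙 S.X₂) := PreservesCokernel.iso ShortComplex.π₂ φ
  let e₃ : (cokernel φ).X₃ ≅ cokernel (b • 𝟙 S.X₃) := PreservesCokernel.iso ShortComplex.π₃ φ
  let k₃ : (kernel φ).X₃ ≅ kernel (b • 𝟙 S.X₃) := PreservesKernel.iso ShortComplex.π₃ φ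
  have hA : P D.L₃.X₁ := P.prop_of_iso e₁.symm h₁
  have hB : P D.L₃.X₃ := P.prop_of_iso e₃.symm h₃
  have hK : P D.L₀.X₃ := P.prop_of_iso k₃.symm ht
  have hcD : P (cokernel D.δ) := P.prop_of_isColimit_cokernelCofork (colimit.isColimit (parallelPair D.δ 0)) hK hA
  haveI := hS.epi_g
  haveI : Epi D.L₂.g := hS.epi_g
  haveI : Epi D.L₃.g := D.epi_L₃_g
  let d : cokernel D.δ ⟶ D.L₃.X₂ := cokernel.desc _ D.L₃.f D.δ_L₃_f
  haveI : Mono d := D.L₂'_exact.mono_cokernelDesc
  have hd : d ≫ D.L₃.g = 0 := by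
    rw [← cancel_epi (cokernel.π D.δ), cokernel.π_desc_assoc, comp_zero, D.L₃.zero]
  let T := ShortComplex.mk d D.L₃.g hd
  let τ : D.L₃ ⟶ T := ShortComplex.homMk (cokernel.π D.δ) (𝟙 _) (𝟙 _)
    (by simp [T, d]) (by simp [T])
  haveI : Epi τ.τ₁ := inferInstanceAs (Epi (cokernel.π D.δ))
  haveI : IsIso τ.τ₂ := inferInstanceAs (IsIso (𝟙 D.L₃.X₂))
  haveI : Mono τ.τ₃ := inferInstanceAs (Mono (𝟙 D.L₃.X₃))
  have hT : T.ShortExact :=
    { exact := (ShortComplex.exact_iff_of_epi_of_isIso_of_mono τ).1 D.L₃_exact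
      mono_f := ‹Mono d›
      epi_g := ‹Epi D.L₃.g› }
  have hB₂ : P T.X₂ := P.prop_X₂_of_shortExact hT hcD hB
  exact P.prop_of_iso e₂ hB₂

end Quot

end Groth.Agent.H18EpsMod

universe z

namespace Groth.Agent.H18EpsMod

open H18Adic (secF)

variable {Λ : Type (z + 1)} [CommRing Λ] {X : Scheme.{z}}

theorem sec_smul (a : Λ) (G : EtModW.ModP Λ X) {V : X.ProEt} (y : (secF V).obj G) :
    ((secF V).map (a • 𝟙 G)).hom y = a • y := rfl

/-- Sections of a quotient modulo a power of an element. -/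
theorem sec_eq_zero_iff (a : Λ) (n : ℕ) {G Q : EtModW.ModP Λ X} {p : G ⟶ Q}
    (hp : ARSys.IsQuot (Ideal.span {a} ^ (n + 1)) p) {V : X.ProEt} (hV : ProEtS.IsWC V) (x : (secF V).obj G) :
    ((secF V).map p).hom x = 0 ↔ Dv a n x := by
  have hfg : (Ideal.span {a} ^ (n + 1)).FG := Ideal.FG.pow ⟨{a}, by simp⟩
  have h := (S14017.result Λ _ hfg X G Q p hp V hV).2
  refine LinearMap.mem_ker.symm.trans ?_
  rw [show LinearMap.ker ((secF V).map p).hom = _ from h, Ideal.span_singleton_pow,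
    Submodule.ideal_span_singleton_smul, Submodule.mem_smul_pointwise_iff_exists]
  exact ⟨fun ⟨y, _, hy⟩ => ⟨y, hy⟩, fun ⟨y, hy⟩ => ⟨y, Submodule.mem_top, hy⟩⟩

/-- The limit of a tower of quotients, on sections. -/
theorem sec_complete (a : Λ) {G : EtModW.ModP Λ X} {Q : ℕᵒᵖ ⥤ EtModW.ModP Λ X}
    (p : (Functor.const ℕᵒᵖ).obj G ⟶ Q) (hp : ∀ n : ℕ, ARSys.IsQuot (Ideal.span {a} ^ (n + 1)) (p.app (op n)))
    (hlim : IsIso (limit.lift Q (Cone.mk G p))) {V : X.ProEt} (hV : ProEtS.IsWC V) :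
    (∀ x : (secF V).obj G, (∀ n, Dv a n x) → x = 0) ∧
    (∀ x : ℕ → (secF V).obj G, (∀ n, Dv a n (x (n + 1) - x n)) → ∃ y, ∀ n, Dv a n (y - x n)) := by
  let E := secF (Λ := Λ) V
  let hl := Types.isLimitEquivSections
    (isLimitOfPreserves (E ⋙ forget (ModuleCat.{z + 1} Λ)) (limit.isLimit Q))
  have hb := ConcreteCategory.bijective_of_isIso (E.map (limit.lift Q (Cone.mk G p)))
  have hπ : ∀ (j : ℕᵒᵖ) (x : E.obj G), (E.map (limit.π Q j)).hom ((E.map (limit.lift Q (Cone.mk G p))).hom x) =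
      (E.map (p.app j)).hom x := fun j x =>
    (sec_comp _ _ x).trans (congrArg (fun f => (E.map f).hom x) (limit.lift_π (Cone.mk G p) j))
  constructor
  · intro x hx
    refine hb.1 (hl.injective (Subtype.ext (funext fun j => ?_)))
    change (E.map (limit.π Q j)).hom _ = (E.map (limit.π Q j)).hom _
    rw [hπ, map_zero, map_zero]
    exact (sec_eq_zero_iff a j.unop (hp j.unop) hV x).2 (hx j.unop)
  · intro x hx
    let σ₀ : ∀ n : ℕ, E.obj (Q.obj (op n)) := fun n => (E.map (p.app (op n))).hom (x n)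
    have htr : ∀ (n m : ℕ) (h : n ≤ m), (E.map (ARSys.tr Q h)).hom (σ₀ m) = σ₀ n := by
      intro n m h
      have e : p.app (op m) ≫ ARSys.tr Q h = p.app (op n) :=
        (p.naturality (homOfLE h).op).symm.trans (Category.id_comp _)
      have h' : (E.map (ARSys.tr Q h)).hom (σ₀ m) = (E.map (p.app (op n))).hom (x m) :=
        (sec_comp _ _ _).trans (congrArg (fun f => (E.map f).hom (x m)) e)
      rw [h', ← sub_eq_zero, ← map_sub]
      refine (sec_eq_zero_iff a n (hp n) hV _).2 ?_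
      induction h with
      | refl => exact ⟨0, by simp⟩
      | @step m hm ih =>
        rw [← sub_add_sub_cancel _ (x m) _]
        exact ((hx m).mono hm).add (ih (by
          exact (p.naturality (homOfLE hm).op).symm.trans (Category.id_comp _)) (by
          exact (sec_comp _ _ _).trans (congrArg (fun f => (E.map f).hom (x m))
            ((p.naturality (homOfLE hm).op).symm.trans (Category.id_comp _)))))
    let σ : (Q ⋙ E ⋙ forget (ModuleCat.{z + 1} Λ)).sections :=
      ⟨fun j => σ₀ j.unop, fun {j k} f => htr _ _ (leOfHom f.unop)⟩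
    obtain ⟨y, hy⟩ := hb.2 (hl.symm σ)
    refine ⟨y, fun n => (sec_eq_zero_iff a n (hp n) hV _).1 ?_⟩
    rw [map_sub, sub_eq_zero, ← hπ]
    refine (congrArg (E.map (limit.π Q (op n))).hom hy).trans ?_
    exact congrFun (congrArg Subtype.val (hl.apply_symm_apply σ)) (op n)

variable [ProEtS.EpsCont X]

/-- The extension of two adic sheaves has constructible quotients and is their limit. -/
theorem exists_tower [IsNoetherianRing Λ] [IsNoetherian X] (a : Λ) (S : ShortComplex (EtModW.ModP Λ X))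
    (hS : S.ShortExact)
    (P : EtModW.ModP Λ X → Prop)
    (hP : ∀ F, P F ↔ ∃ (Q : ℕᵒᵖ ⥤ EtModW.ModP Λ X) (p : (Functor.const ℕᵒᵖ).obj F ⟶ Q),
        (∀ n : ℕ, ARSys.IsQuot ((Ideal.span {a}) ^ (n + 1)) (p.app (op n))) ∧
        (∀ n : ℕ, ∃ E : EtModW.Mod Λ X, EtModW.IsConstructible Λ E ∧
          Nonempty ((EtModW.epsPullMod Λ X).obj E ≅ Q.obj (op n))) ∧
        IsIso (limit.lift Q (Cone.mk F p)))
    (h₁ : P S.X₁) (h₃ : P S.X₃) : P S.X₂ := by
  let I : Ideal Λ := Ideal.span {a}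
  have hI : I.FG := ⟨{a}, by simp [I]⟩
  have hiso : ∀ {F F' : EtModW.ModP Λ X}, (F ≅ F') → P F → P F' := by
    intro F F' e h
    obtain ⟨G, hG, hGc, ⟨i⟩⟩ := (S14010.result Λ I hI X F).1 ((hP F).1 h)
    exact (hP F').2 ((S14010.result Λ I hI X F').2 ⟨G, hG, hGc, ⟨i ≪≫ e⟩⟩)
  have htor : ∀ k : ℕ, P (kernel (a ^ k • 𝟙 S.X₃)) := fun k =>
    (hP _).2 (S14013.result Λ I X S.X₃ S.X₃ ((hP _).1 h₃) ((hP _).1 h₃) _).1
  let cons : ObjectProperty (EtModW.ModP Λ X) := fun F =>
    ∃ E : EtModW.Mod Λ X, EtModW.IsConstructible Λ E ∧ Nonempty ((EtModW.epsPullMod Λ X).obj E ≅ F)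
  haveI : WSerre.IsWeakSerre cons := S14019.result Λ X
  have hq : ∀ {F : EtModW.ModP Λ X} (n : ℕ) {R : EtModW.ModP Λ X} {r : F ⟶ R}, P F →
      ARSys.IsQuot (I ^ (n + 1)) r → cons R := by
    intro F n R r hF hr
    obtain ⟨Q, p, hp, hc, -⟩ := (hP F).1 hF
    obtain ⟨E, hE, ⟨e⟩⟩ := hc n
    obtain ⟨i⟩ := nonempty_iso_of_isQuot (hp n) hr
    exact ⟨E, hE, ⟨e ≪≫ i⟩⟩
  have hquot : ∀ (F : EtModW.ModP Λ X) (n : ℕ), ARSys.IsQuot (I ^ (n + 1)) (cokernel.π (a ^ (n + 1) • 𝟙 F)) := by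
    intro F n
    rw [Ideal.span_singleton_pow]
    exact isQuot_cokernel_smul _ F
  -- the tower
  let Q : ℕᵒᵖ ⥤ EtModW.ModP Λ X :=
    { obj := fun n => cokernel (a ^ (n.unop + 1) • 𝟙 S.X₂)
      map := fun {m n} f => cokernel.desc _ (cokernel.π (a ^ (n.unop + 1) • 𝟙 S.X₂)) (by
        rw [Linear.smul_comp, Category.id_comp, ← Category.comp_id (cokernel.π _), ← Linear.comp_smul,
          (hquot S.X₂ n.unop).1 _ (Ideal.pow_le_pow_right (Nat.succ_le_succ (leOfHom f.unop))
            (Ideal.pow_mem_pow (Ideal.mem_span_singleton_self a) _)), comp_zero])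
      map_id := fun n => by
        rw [← cancel_epi (cokernel.π _)]
        simp
      map_comp := fun f g => by
        rw [← cancel_epi (cokernel.π _)]
        simp }
  let p : (Functor.const ℕᵒᵖ).obj S.X₂ ⟶ Q :=
    { app := fun n => cokernel.π _
      naturality := fun m n f => by simp [Q] }
  refine (hP _).2 ⟨Q, p, fun n => hquot S.X₂ n, fun n => ?_, ?_⟩
  · refine prop_cokernel_smul cons hS (a ^ (n + 1)) (hq n h₁ (hquot S.X₁ n)) (hq n h₃ (hquot S.X₃ n)) ?_
    refine hq n (r := 𝟙 _) (htor (n + 1)) ⟨fun c hc => ?_, fun Y φ _ => ⟨φ, Category.id_comp _, fun ψ hψ => ?_⟩⟩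
    · obtain ⟨d, rfl⟩ := Ideal.mem_span_singleton'.1 (Ideal.span_singleton_pow a (n + 1) ▸ hc)
      rw [mul_smul]
      have h : (a ^ (n + 1)) • 𝟙 (kernel (a ^ (n + 1) • 𝟙 S.X₃)) = 0 := by
        rw [← cancel_mono (kernel.ι (a ^ (n + 1) • 𝟙 S.X₃)), Linear.smul_comp, Category.id_comp, zero_comp]
        have h := kernel.condition (a ^ (n + 1) • 𝟙 S.X₃)
        rwa [Linear.comp_smul, Category.comp_id] at h
      rw [h, smul_zero]
    · exact (Category.id_comp ψ).symm.trans hψ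
  -- bounded torsion
  obtain ⟨c, hc⟩ := S14014.result Λ I X S.X₃ ((hP _).1 h₃)
    ⟨fun k => Subobject.mk (kernel.ι (a ^ k • 𝟙 S.X₃)), monotone_nat_of_le_succ fun k =>
      Subobject.mk_le_mk_of_comm (kernel.lift _ (kernel.ι _) (by
        rw [pow_succ', mul_smul, Linear.comp_smul, kernel.condition, smul_zero])) (kernel.lift_ι _ _ _)⟩
    (fun k => (hP _).1 (hiso (Subobject.underlyingIso _).symm (htor k)))
  -- completeness on weakly contractible objects
  haveI : Mono S.f := hS.mono_f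
  haveI : Epi S.g := hS.epi_g
  obtain ⟨Q₁, p₁, hp₁, -, hl₁⟩ := (hP _).1 h₁
  obtain ⟨Q₃, p₃, hp₃, -, hl₃⟩ := (hP _).1 h₃
  have hcomp : ∀ V : X.ProEt, ProEtS.IsWC V →
      (∀ x : (secF V).obj S.X₂, (∀ n, Dv a n x) → x = 0) ∧
      (∀ x : ℕ → (secF V).obj S.X₂, (∀ n, Dv a n (x (n + 1) - x n)) → ∃ y, ∀ n, Dv a n (y - x n)) := by
    intro V hV
    refine complete_of_extension a ((secF V).map S.f).hom ((secF V).map S.g).hom ?_
      (H1DC.surjective_of_epi hV S.g) (fun f => ?_) (exists_preimage_section hS.exact hV) c ?_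
      (sec_complete a p₁ hp₁ hl₁ hV).1 (sec_complete a p₃ hp₃ hl₃ hV).1
      (sec_complete a p₁ hp₁ hl₁ hV).2 (sec_complete a p₃ hp₃ hl₃ hV).2
    · haveI : PreservesFiniteLimits (secF (Λ := Λ) V) := inferInstance
      exact (ModuleCat.mono_iff_injective _).1 (inferInstanceAs (Mono ((secF V).map S.f)))
    · rw [sec_comp, S.zero, sec_zero]
    · intro m h hm hmh
      obtain ⟨z, hz⟩ := H18Adic.exists_kernel_section (a ^ m • 𝟙 S.X₃) V h ((sec_smul _ _ h).trans hmh)
      let t := Subobject.ofMkLEMk _ _ (le_of_eq (hc m hm))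
      rw [← hz, ← show t ≫ kernel.ι (a ^ c • 𝟙 S.X₃) = kernel.ι (a ^ m • 𝟙 S.X₃) from Subobject.ofMkLEMk_comp _,
        ← sec_comp]
      refine (sec_smul _ _ _).symm.trans ((sec_comp _ _ _).trans ?_)
      rw [kernel.condition, sec_zero]
  -- the limit
  let l := limit.lift Q (Cone.mk S.X₂ p)
  have hsec : ∀ (V : X.ProEt) (j : ℕᵒᵖ) (x : (secF V).obj S.X₂),
      ((secF V).map (limit.π Q j)).hom (((secF V).map l).hom x) = ((secF V).map (p.app j)).hom x := fun V j x =>
    (sec_comp _ _ x).trans (congrArg (fun f => ((secF V).map f).hom x) (limit.lift_π (Cone.mk S.X₂ p) j))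
  haveI : Mono l := by
    refine Preadditive.mono_of_kernel_zero (H18Adic.eq_zero_of_wc _ fun V _ hV z => ?_)
    refine (hcomp V hV).1 _ fun n => (sec_eq_zero_iff a n (hquot S.X₂ n) hV _).1 ?_
    change ((secF V).map (p.app (op n))).hom _ = 0
    rw [← hsec, sec_comp (kernel.ι l) l, kernel.condition, sec_zero, map_zero]
  haveI : Epi l := by
    refine H1DC.epi_of_surjective _ fun V _ hV y => ?_
    have hpe : ∀ n : ℕ, ∃ x : (secF V).obj S.X₂,
        ((secF V).map (p.app (op n))).hom x = ((secF V).map (limit.π Q (op n))).hom y :=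
      fun n => haveI : Epi (p.app (op n)) := epi_of_isQuot (hquot S.X₂ n)
        H1DC.surjective_of_epi hV (p.app (op n)) _
    choose x hx using hpe
    obtain ⟨g, hg⟩ := (hcomp V hV).2 x fun n => by
      refine (sec_eq_zero_iff a n (hquot S.X₂ n) hV _).1 ?_
      change ((secF V).map (p.app (op n))).hom _ = 0
      rw [map_sub, hx n, sub_eq_zero]
      have e : p.app (op (n + 1)) ≫ ARSys.tr Q (Nat.le_succ n) = p.app (op n) :=
        (p.naturality (homOfLE (Nat.le_succ n)).op).symm.trans (Category.id_comp _)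
      refine (congrArg (fun f => ((secF V).map f).hom (x (n + 1))) e.symm).trans ?_
      refine (sec_comp _ _ _).symm.trans ((congrArg _ (hx (n + 1))).trans ((sec_comp _ _ y).trans ?_))
      exact congrArg (fun f => ((secF V).map f).hom y) (limit.w Q (homOfLE (Nat.le_succ n)).op)
    refine ⟨g, (Types.isLimitEquivSections
      (isLimitOfPreserves (secF V ⋙ forget (ModuleCat.{z + 1} Λ)) (limit.isLimit Q))).injective
        (Subtype.ext (funext fun j => ?_))⟩
    change ((secF V).map (limit.π Q j)).hom (((secF V).map l).hom g) = ((secF V).map (limit.π Q j)).hom y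
    rw [hsec]
    refine (eq_of_sub_eq_zero ?_).trans (hx j.unop)
    rw [← map_sub]
    exact (sec_eq_zero_iff a j.unop (hquot S.X₂ j.unop) hV _).2 (hg j.unop)
  exact isIso_of_mono_of_epi l

end Groth.Agent.H18EpsMod
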