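import Groth.Prelude.Def_EtModW
import Groth.Prelude.Def_ProEtS
import Mathlib.Algebra.Category.ModuleCat.Colimits
import Mathlib.CategoryTheory.Functor.KanExtension.Preserves
import Mathlib.CategoryTheory.Functor.KanExtension.Pointwise
import Groth.Agent.H1EpsS.Unit

/-!
`ε⁻¹` on sheaves of modules commutes with forgetting the scalars; it is fully faithful.
-/

set_option autoImplicit false
set_option backward.isDefEq.respectTransparency false
universe u

open CategoryTheory CategoryTheory.Limits CategoryTheory.Functor AlgebraicGeometry Opposite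

namespace Groth.Agent.H18EpsMod

section Universal

universe w₁ w₂ v₁ v₂ w₃ v₃
variable {C : Type w₁} [Category.{v₁} C] {D : Type w₂} [Category.{v₂} D] (e : C ⥤ D)
  (K : GrothendieckTopology D) {A : Type w₃} [Category.{v₃} A]

/-- The universal property of the sheafification of a left Kan extension. -/
theorem existsUnique_lift {M : Cᵒᵖ ⥤ A} {P Q : Dᵒᵖ ⥤ A} (α : M ⟶ e.op ⋙ P) [P.IsLeftKanExtension α]
    (t : P ⟶ Q) (ht : K.W t) {G : Dᵒᵖ ⥤ A} (hG : Presheaf.IsSheaf K G) (β : M ⟶ e.op ⋙ G) :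
    ∃! h : Q ⟶ G, (α ≫ whiskerLeft e.op t) ≫ whiskerLeft e.op h = β := by
  obtain ⟨h, hh⟩ := (ht G hG).2 (P.descOfIsLeftKanExtension α G β)
  refine ⟨h, ?_, fun h' hh' => (ht G hG).1 ?_⟩
  · change t ≫ h = _ at hh
    rw [Category.assoc, ← whiskerLeft_comp, hh, P.descOfIsLeftKanExtension_fac]
  · change t ≫ h' = t ≫ h
    refine P.hom_ext_of_isLeftKanExtension α _ _ ?_
    change t ≫ h = _ at hh
    rw [hh, P.descOfIsLeftKanExtension_fac, ← hh', Category.assoc, whiskerLeft_comp]

end Universal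

variable (Λ : Type (u + 1)) [CommRing Λ] {X : Scheme.{u}} [ProEtS.EpsCont X]

/-- Forgetting the scalars, étale site. -/
noncomputable abbrev fgt (X : Scheme.{u}) : EtModW.Mod Λ X ⥤ EtCoh.Ab X :=
  sheafCompose X.smallEtaleTopology (forget₂ (ModuleCat.{u + 1} Λ) AddCommGrpCat.{u + 1})

/-- Forgetting the scalars, pro-étale site. -/
noncomputable abbrev fgtP (X : Scheme.{u}) : EtModW.ModP Λ X ⥤ ProEtS.AbP X :=
  sheafCompose (Scheme.ProEt.topology X) (forget₂ (ModuleCat.{u + 1} Λ) AddCommGrpCat.{u + 1})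

/-- `ε_*` on sheaves of modules. -/
noncomputable abbrev pushMod (X : Scheme.{u}) [ProEtS.EpsCont X] : EtModW.ModP Λ X ⥤ EtModW.Mod Λ X :=
  (ProEtS.eps X).sheafPushforwardContinuous (ModuleCat.{u + 1} Λ) X.smallEtaleTopology (Scheme.ProEt.topology X)

/-- The adjunction on sheaves of modules. -/
noncomputable abbrev adjMod (X : Scheme.{u}) [ProEtS.EpsCont X] : EtModW.epsPullMod Λ X ⊣ pushMod Λ X :=
  (ProEtS.eps X).sheafAdjunctionContinuous (ModuleCat.{u + 1} Λ) X.smallEtaleTopology (Scheme.ProEt.topology X)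

theorem preservesSheafification_forget (X : Scheme.{u}) :
    (Scheme.ProEt.topology X).PreservesSheafification (forget₂ (ModuleCat.{u + 1} Λ) AddCommGrpCat.{u + 1}) := by
  haveI : ∀ (J : MulticospanShape.{u + 1, u + 1}),
      HasLimitsOfShape (WalkingMulticospan J) (ModuleCat.{u + 1} Λ) := fun _ => inferInstance
  haveI : ∀ (J : MulticospanShape.{u + 1, u + 1}),
      HasLimitsOfShape (WalkingMulticospan J) AddCommGrpCat.{u + 1} := fun _ => inferInstance
  refine GrothendieckTopology.preservesSheafification_iff_of_adjunctions_of_hasSheafCompose _ _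
    (plusPlusAdjunction _ _) (plusPlusAdjunction _ _) |>.2 ?_
  infer_instance

/-- The comparison map. -/
noncomputable def cmp (X : Scheme.{u}) [ProEtS.EpsCont X] :
    fgt Λ X ⋙ ProEtS.epsPull X ⟶ EtModW.epsPullMod Λ X ⋙ fgtP Λ X where
  app M := ((ProEtS.epsAdj X).homEquiv _ _).symm ((fgt Λ X).map ((adjMod Λ X).unit.app M))
  naturality M N f := by
    dsimp
    refine ((ProEtS.epsAdj X).homEquiv_naturality_left_symm _ _).symm.trans ?_
    refine Eq.trans ?_ ((ProEtS.epsAdj X).homEquiv_naturality_right_symm _ _)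
    congr 1
    change (fgt Λ X).map f ≫ (fgt Λ X).map _ = (fgt Λ X).map _ ≫ (fgt Λ X).map ((pushMod Λ X).map _)
    rw [← Functor.map_comp, ← Functor.map_comp]
    exact congrArg _ ((adjMod Λ X).unit.naturality f)

theorem unit_cmp (M : EtModW.Mod Λ X) :
    (ProEtS.epsAdj X).unit.app ((fgt Λ X).obj M) ≫ (ProEtS.epsPush X).map ((cmp Λ X).app M) =
      (fgt Λ X).map ((adjMod Λ X).unit.app M) := by
  exact ((ProEtS.epsAdj X).homEquiv_unit _ _ _).symm.trans (Equiv.apply_symm_apply _ _)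

theorem isIso_cmp_app (M : EtModW.Mod Λ X) : IsIso ((cmp Λ X).app M) := by
  let F := forget₂ (ModuleCat.{u + 1} Λ) AddCommGrpCat.{u + 1}
  let e := ProEtS.eps X
  let K := Scheme.ProEt.topology X
  let P := e.op.lan.obj M.obj
  let α : M.obj ⟶ e.op ⋙ P := e.op.lanUnit.app M.obj
  let Q : EtModW.ModP Λ X := (presheafToSheaf K (ModuleCat.{u + 1} Λ)).obj P
  let t : P ⟶ Q.obj := toSheafify K P
  let q : M ⟶ (pushMod Λ X).obj Q := ⟨α ≫ whiskerLeft e.op t⟩
  -- `Q` is the pullback of `M`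
  obtain ⟨b, hb, -⟩ := existsUnique_lift e K α t (K.W_toSheafify P) (G := ((EtModW.epsPullMod Λ X).obj M).obj)
    ((EtModW.epsPullMod Λ X).obj M).property ((adjMod Λ X).unit.app M).hom
  let bS : Q ⟶ (EtModW.epsPullMod Λ X).obj M := ⟨b⟩
  have hbS : q ≫ (pushMod Λ X).map bS = (adjMod Λ X).unit.app M := Sheaf.hom_ext hb
  let a : (EtModW.epsPullMod Λ X).obj M ⟶ Q := ((adjMod Λ X).homEquiv M Q).symm q
  have ha : (adjMod Λ X).unit.app M ≫ (pushMod Λ X).map a = q :=
    ((adjMod Λ X).homEquiv_unit _ _ _).symm.trans (Equiv.apply_symm_apply _ _)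
  have hab : a ≫ bS = 𝟙 _ := by
    refine ((adjMod Λ X).homEquiv M _).injective ?_
    rw [Adjunction.homEquiv_unit, Adjunction.homEquiv_unit, Functor.map_comp, ← Category.assoc, ha, hbS]
    exact ((congrArg ((adjMod Λ X).unit.app M ≫ ·) ((pushMod Λ X).map_id _)).trans (Category.comp_id _)).symm
  -- the universal property after forgetting the scalars
  haveI : (P ⋙ F).IsLeftKanExtension (whiskerRight α F ≫ (Functor.associator _ _ _).hom) :=
    PreservesLeftKanExtension.preserves P α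
  haveI : K.PreservesSheafification F := preservesSheafification_forget Λ X
  have ht : K.W (whiskerRight t F) := K.W_of_preservesSheafification F _ (K.W_toSheafify P)
  obtain ⟨v₀, hv₀, -⟩ := existsUnique_lift e K (whiskerRight α F ≫ (Functor.associator _ _ _).hom)
    (whiskerRight t F) ht (G := ((ProEtS.epsPull X).obj ((fgt Λ X).obj M)).obj)
    ((ProEtS.epsPull X).obj ((fgt Λ X).obj M)).property ((ProEtS.epsAdj X).unit.app ((fgt Λ X).obj M)).hom
  let v : (fgtP Λ X).obj Q ⟶ (ProEtS.epsPull X).obj ((fgt Λ X).obj M) := ⟨v₀⟩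
  have hq : ((fgt Λ X).map q).hom =
      (whiskerRight α F ≫ (Functor.associator _ _ _).hom) ≫ whiskerLeft e.op (whiskerRight t F) := by
    ext U : 2
    change F.map (α.app U ≫ t.app (e.op.obj U)) = (F.map (α.app U) ≫ 𝟙 _) ≫ F.map (t.app (e.op.obj U))
    rw [Category.comp_id, Functor.map_comp]
  have hv : (fgt Λ X).map q ≫ (ProEtS.epsPush X).map v = (ProEtS.epsAdj X).unit.app ((fgt Λ X).obj M) := by
    refine Sheaf.hom_ext ?_
    refine Eq.trans ?_ hv₀
    exact congrArg (· ≫ whiskerLeft e.op v₀) hq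
  let c := (cmp Λ X).app M ≫ (fgtP Λ X).map a
  have hc : (ProEtS.epsAdj X).unit.app ((fgt Λ X).obj M) ≫ (ProEtS.epsPush X).map c = (fgt Λ X).map q := by
    rw [Functor.map_comp, ← Category.assoc, unit_cmp]
    change (fgt Λ X).map _ ≫ (fgt Λ X).map ((pushMod Λ X).map a) = _
    rw [← Functor.map_comp, ha]
  have h1 : c ≫ v = 𝟙 _ := by
    refine ((ProEtS.epsAdj X).homEquiv _ _).injective ?_
    rw [Adjunction.homEquiv_unit, Adjunction.homEquiv_unit, Functor.map_comp, ← Category.assoc, hc, hv]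
    exact ((congrArg ((ProEtS.epsAdj X).unit.app ((fgt Λ X).obj M) ≫ ·) ((ProEtS.epsPush X).map_id _)).trans
      (Category.comp_id _)).symm
  have h2 : v ≫ c = 𝟙 _ := by
    refine Sheaf.hom_ext ?_
    refine (existsUnique_lift e K (whiskerRight α F ≫ (Functor.associator _ _ _).hom) (whiskerRight t F) ht
      (G := ((fgtP Λ X).obj Q).obj) ((fgtP Λ X).obj Q).property ((fgt Λ X).map q).hom).unique ?_ ?_
    · change _ ≫ whiskerLeft e.op (v₀ ≫ c.hom) = _
      rw [whiskerLeft_comp, ← Category.assoc, hv₀]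
      exact congrArg (fun g => g.hom) hc
    · change _ ≫ whiskerLeft e.op (𝟙 _) = _
      rw [whiskerLeft_id']
      exact (Category.comp_id _).trans hq.symm
  have h3 : bS ≫ a = 𝟙 _ := by
    refine Sheaf.hom_ext ?_
    refine (existsUnique_lift e K α t (K.W_toSheafify P) (G := Q.obj) Q.property q.hom).unique ?_ ?_
    · change _ ≫ whiskerLeft e.op (b ≫ a.hom) = _
      rw [whiskerLeft_comp, ← Category.assoc, hb]
      exact congrArg (fun g => g.hom) ha
    · change _ ≫ whiskerLeft e.op (𝟙 _) = _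
      rw [whiskerLeft_id']
      exact Category.comp_id _
  haveI : IsIso a := ⟨bS, hab, h3⟩
  haveI : IsIso c := ⟨v, h1, h2⟩
  exact IsIso.of_isIso_comp_right ((cmp Λ X).app M) ((fgtP Λ X).map a)

/-- The natural isomorphism. -/
noncomputable def cmpIso (X : Scheme.{u}) [ProEtS.EpsCont X] :
    fgt Λ X ⋙ ProEtS.epsPull X ≅ EtModW.epsPullMod Λ X ⋙ fgtP Λ X :=
  haveI : ∀ M, IsIso ((cmp Λ X).app M) := fun M => isIso_cmp_app Λ M
  haveI := NatIso.isIso_of_isIso_app (cmp Λ X)
  asIso (cmp Λ X)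

theorem isIso_unit (M : EtModW.Mod Λ X) : IsIso ((adjMod Λ X).unit.app M) := by
  haveI := Groth.Agent.H1EpsS.isIso_unit ((fgt Λ X).obj M)
  haveI := isIso_cmp_app Λ M
  haveI : IsIso ((fgt Λ X).map ((adjMod Λ X).unit.app M)) := by
    rw [← unit_cmp]
    infer_instance
  exact isIso_of_reflects_iso _ (fgt Λ X)

theorem full_faithful (X : Scheme.{u}) [ProEtS.EpsCont X] :
    (EtModW.epsPullMod Λ X).Full ∧ (EtModW.epsPullMod Λ X).Faithful := by
  haveI : ∀ M, IsIso ((adjMod Λ X).unit.app M) := fun M => isIso_unit Λ M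
  haveI := NatIso.isIso_of_isIso_app (adjMod Λ X).unit
  exact ⟨((adjMod Λ X).fullyFaithfulLOfIsIsoUnit).full, ((adjMod Λ X).fullyFaithfulLOfIsIsoUnit).faithful⟩

end Groth.Agent.H18EpsMod
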