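import Groth.Agent.H18Et.Cons.ModACC
import Groth.Agent.H18Et.LC.StalkSystem
import Groth.Agent.S14020
import Mathlib.RingTheory.Artinian.Module

/-!
Stabilisation of images in towers of finite type locally constant sheaves killed by artinian ideals.
-/

set_option autoImplicit false
set_option backward.isDefEq.respectTransparency false
set_option backward.isDefEq.respectTransparency.types false
universe w u

open CategoryTheory CategoryTheory.Limits AlgebraicGeometry Opposite

namespace Groth.Agent.H18EpsMod

open scoped Groth.Agent.H18Et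
open Groth.Agent.H18Et

theorem isArtinian_of_killed {R : Type w} [CommRing R] (J : Ideal R) [IsArtinianRing (R ⧸ J)] {M : Type w}
    [AddCommGroup M] [Module R M] [Module.Finite R M] (h : ∀ a ∈ J, ∀ x : M, a • x = 0) : IsArtinian R M := by
  have hM : Module.IsTorsionBySet R M (J : Set R) := fun x a => h a.1 a.2 x
  letI := hM.module
  haveI : IsScalarTower R (R ⧸ J) M := hM.isScalarTower
  haveI : Module.Finite (R ⧸ J) M := Module.Finite.of_restrictScalars_finite R (R ⧸ J) M
  exact isArtinian_of_surjective_algebraMap (R := R ⧸ J) Ideal.Quotient.mk_surjective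

theorem imageSubobject_comp_of_epi {C : Type*} [Category C] [Abelian C] {A B D : C} (e : A ⟶ B) [Epi e]
    (m : B ⟶ D) : imageSubobject (e ≫ m) = imageSubobject m := by
  haveI := isIso_of_mono_of_epi (Subobject.ofLE _ _ (imageSubobject_comp_le e m))
  exact Subobject.eq_of_comm (asIso (Subobject.ofLE _ _ (imageSubobject_comp_le e m))) (Subobject.ofLE_arrow _)

/-- Exact functors preserve equality of images. -/
theorem imageSubobject_map_eq {C D : Type*} [Category C] [Abelian C] [Category D] [Abelian D] (L : C ⥤ D)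
    [L.PreservesEpimorphisms] {A A' B : C} (f : A ⟶ B) (g : A' ⟶ B) (h : imageSubobject f = imageSubobject g) :
    imageSubobject (L.map f) = imageSubobject (L.map g) := by
  have key : ∀ {Z : C} (k : Z ⟶ B), imageSubobject (L.map k) = imageSubobject (L.map (imageSubobject k).arrow) := by
    intro Z k
    conv_lhs => rw [← imageSubobject_arrow_comp k, L.map_comp]
    haveI : Epi (L.map (factorThruImageSubobject k)) := inferInstance
    exact imageSubobject_comp_of_epi _ _
  rw [key f, key g, h]

variable {Λ : Type (u + 1)} [CommRing Λ] {X : Scheme.{u}}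
  {Ω : Type u} [Field Ω] [IsSepClosed Ω]

theorem stalkRange_imageSubobject (ξ : Spec (CommRingCat.of Ω) ⟶ X) {A B : EtModW.Mod Λ X} (f : A ⟶ B) :
    H18Et.Cons.stalkRangeMod Λ (imageSubobject f) ξ = LinearMap.range ((EtModW.stalk Λ ξ).map f).hom := by
  haveI : PreservesFiniteColimits (EtModW.stalk Λ ξ) := by
    haveI := ((Scheme.pointSmallEtale ξ).skyscraperSheafAdjunction
      (A := ModuleCat.{u + 1} Λ)).leftAdjoint_preservesColimits
    exact PreservesColimitsOfSize.preservesFiniteColimits.{0, 0} _
  have hs : Function.Surjective ((EtModW.stalk Λ ξ).map (factorThruImageSubobject f)).hom :=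
    (ModuleCat.epi_iff_surjective _).1 inferInstance
  conv_rhs => rw [← imageSubobject_arrow_comp f, Functor.map_comp, ModuleCat.hom_comp,
    LinearMap.range_comp, LinearMap.range_eq_top.2 hs, Submodule.map_top]
  rfl

/-- Images of transition maps stabilise. -/
theorem exists_image_stable [IsNoetherianRing Λ] [IsNoetherian X] (I : Ideal Λ) [IsArtinianRing (Λ ⧸ I)]
    (F : ARSys.PS (EtModW.Mod Λ X)) (hk : ARSys.TermKilled I F)
    (hF : ∀ n : ℕ, EtModW.IsFTLocConst Λ (F.obj (op n))) (n : ℕ) :
    ∃ r : ℕ, ∀ s : ℕ, r ≤ s → imageSubobject (ARSys.shiftMap F s n) = imageSubobject (ARSys.shiftMap F r n) := by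
  let S : ℕ → Subobject (F.obj (op n)) := fun s => imageSubobject (ARSys.shiftMap F s n)
  have hanti : Antitone S := antitone_nat_of_succ_le fun s => by
    have e : ARSys.shiftMap F (s + 1) n = ARSys.tr F (Nat.le_succ (n + s)) ≫ ARSys.shiftMap F s n :=
      (congrArg F.map rfl).trans (F.map_comp _ _)
    exact (congrArg (fun f => imageSubobject f) e).le.trans (imageSubobject_comp_le _ _)
  let R : ∀ (x : X) (s : ℕ), Submodule Λ ((EtModW.stalk Λ (geomPt x)).obj (F.obj (op n)) : Type (u + 1)) :=
    fun x s => H18Et.Cons.stalkRangeMod Λ (S s) (geomPt x)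
  have hst : ∀ x : X, ∃ r, ∀ s, r ≤ s → R x r = R x s := by
    intro x
    haveI := H18Et.Cons.finite_stalk_of_isConstructible_mod Λ
      (H18Et.Cons.isConstructible_mod_of_ftLocConst Λ (hF n)) (geomPt x)
    haveI : IsArtinianRing (Λ ⧸ I ^ (n + 1)) := S14020.result Λ I (IsNoetherian.noetherian I) (n + 1)
    haveI : IsArtinian Λ ((EtModW.stalk Λ (geomPt x)).obj (F.obj (op n)) : Type (u + 1)) := by
      refine isArtinian_of_killed (I ^ (n + 1)) fun a ha z => ?_
      haveI : (EtModW.stalk Λ (geomPt x)).PreservesZeroMorphisms := H18Et.LC.sheafFiber_preservesZero _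
      have e := congrArg (EtModW.stalk Λ (geomPt x)).map (hk n a ha)
      rw [H18Et.Cons.stalk_map_smul, CategoryTheory.Functor.map_id, Functor.map_zero] at e
      exact ConcreteCategory.congr_hom e z
    obtain ⟨r, hr⟩ := IsArtinian.monotone_stabilizes
      (⟨fun s => OrderDual.toDual (R x s), fun a b hab => H18Et.Cons.stalkRangeMod_mono Λ (hanti hab) _⟩ :
        ℕ →o (Submodule Λ ((EtModW.stalk Λ (geomPt x)).obj (F.obj (op n)) : Type (u + 1)))ᵒᵈ)
    exact ⟨r, fun s hs => hr s hs⟩
  choose r hr using hst
  have hfin := TopologicalSpace.NoetherianSpace.finite_irreducibleComponents (α := X)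
  choose η hη using fun C : hfin.toFinset =>
    QuasiSober.sober (hfin.mem_toFinset.1 C.2).1 (isClosed_of_mem_irreducibleComponents C.1 (hfin.mem_toFinset.1 C.2))
  let N := Finset.univ.sup fun C => r (η C)
  refine ⟨N, fun s hs => (H18Et.Cons.isIso_ofLE_of_stalkRangeMod Λ (hanti hs) fun Ω _ _ ξ => ?_).symm⟩
  let C : hfin.toFinset := ⟨irreducibleComponent (ξ.base default),
    hfin.mem_toFinset.2 (irreducibleComponent_mem_irreducibleComponents _)⟩
  obtain ⟨φ⟩ := H18Et.LC.exists_specialization ξ (geomPt (η C))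
    (by rw [geomPt_base]; exact (hη C).specializes mem_irreducibleComponent)
  have hle : r (η C) ≤ N := Finset.le_sup (f := fun C => r (η C)) (Finset.mem_univ C)
  intro b hb
  let q := GrothendieckTopology.Point.Hom.sheafFiber (A := ModuleCat.{u + 1} Λ) φ
  have h1 : (q.app _).hom b ∈ R (η C) s := by
    refine ((hr (η C) N hle).symm.trans (hr (η C) s (hle.trans hs))).le ?_
    exact H18Et.Cons.stalkRangeMod_map Λ (S N) φ hb
  have h1' := (stalkRange_imageSubobject (geomPt (η C)) (ARSys.shiftMap F s n)).le h1
  obtain ⟨a, ha⟩ := h1'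
  haveI := H18Et.LC.isIso_specialization_of_isFTLocConst Λ (hF (n + s)) φ
  haveI := H18Et.LC.isIso_specialization_of_isFTLocConst Λ (hF n) φ
  obtain ⟨a', rfl⟩ := (ConcreteCategory.bijective_of_isIso (q.app (F.obj (op (n + s))))).2 a
  refine (stalkRange_imageSubobject ξ (ARSys.shiftMap F s n)).ge ⟨a', ?_⟩
  refine (ConcreteCategory.bijective_of_isIso (q.app (F.obj (op n)))).1 ?_
  exact (NatTrans.naturality_apply q (ARSys.shiftMap F s n) a').trans ha

end Groth.Agent.H18EpsMod
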