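import Groth.Agent.H18EpsMod.Transport
import Groth.Agent.H18EpsMod.BaseChange
import Groth.Agent.H18EpsMod.CmpGen
import Groth.Agent.H18Adic.Adjoint
import Groth.Agent.S0731
import Mathlib.CategoryTheory.Category.ULift

/-!
Extension by zero of adic pro-étale sheaves along quasi-compact open immersions.
-/

set_option autoImplicit false
set_option backward.isDefEq.respectTransparency false
universe u

open CategoryTheory CategoryTheory.Limits AlgebraicGeometry Opposite

namespace Groth.Agent.H18EpsMod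

variable (Λ : Type (u + 1)) [CommRing Λ] {U X : Scheme.{u}} (j : U ⟶ X) [IsOpenImmersion j] [QuasiCompact j]
  [WeaklyEtale j] [ProEtS.JPCont j]

/-- Extension by zero on pro-étale sheaves of modules. -/
noncomputable abbrev extPMod : EtModW.ModP Λ U ⥤ EtModW.ModP Λ X :=
  (ProEtS.compP j).sheafPullback (ModuleCat.{u + 1} Λ) (Scheme.ProEt.topology U) (Scheme.ProEt.topology X)

/-- Its right adjoint. -/
noncomputable abbrev restrPMod : EtModW.ModP Λ X ⥤ EtModW.ModP Λ U :=
  (ProEtS.compP j).sheafPushforwardContinuous (ModuleCat.{u + 1} Λ) (Scheme.ProEt.topology U) (Scheme.ProEt.topology X)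

/-- The adjunction. -/
noncomputable abbrev adjExt : extPMod Λ j ⊣ restrPMod Λ j :=
  (ProEtS.compP j).sheafAdjunctionContinuous (ModuleCat.{u + 1} Λ) (Scheme.ProEt.topology U) (Scheme.ProEt.topology X)

theorem preservesLimitsOfShape_fgtP (J : Type) [SmallCategory J] (T : Scheme.{u}) :
    PreservesLimitsOfShape J (fgtP Λ T) :=
  haveI : PreservesLimitsOfShape J (fgtP Λ T ⋙ sheafToPresheaf _ _) :=
    inferInstanceAs (PreservesLimitsOfShape J (sheafToPresheaf (Scheme.ProEt.topology T) (ModuleCat.{u + 1} Λ) ⋙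
      (Functor.whiskeringRight _ _ _).obj (forget₂ (ModuleCat.{u + 1} Λ) AddCommGrpCat.{u + 1})))
  preservesLimitsOfShape_of_reflects_of_preserves _ (sheafToPresheaf _ _)

theorem preservesLimitsOfShape_extPMod : PreservesLimitsOfShape ℕᵒᵖ (extPMod Λ j) := by
  haveI : PreservesLimitsOfShape ℕᵒᵖ (ProEtS.extZeroP j) := by
    haveI : PreservesLimitsOfShape (AsSmall.{u} ℕᵒᵖ) (ProEtS.extZeroP j) := S0731.result j _
    exact preservesLimitsOfShape_of_equiv (AsSmall.equiv (C := ℕᵒᵖ)).symm _
  haveI := preservesLimitsOfShape_fgtP Λ ℕᵒᵖ U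
  haveI := preservesLimitsOfShape_fgtP Λ ℕᵒᵖ X
  haveI : PreservesLimitsOfShape ℕᵒᵖ (extPMod Λ j ⋙ fgtP Λ X) :=
    preservesLimitsOfShape_of_natIso
      (Gen.cmpIso Λ (Scheme.ProEt.topology U) (Scheme.ProEt.topology X) (ProEtS.compP j))
  haveI : ReflectsLimitsOfShape ℕᵒᵖ (fgtP Λ X) := reflectsLimitsOfShape_of_reflectsIsomorphisms
  exact preservesLimitsOfShape_of_reflects_of_preserves _ (fgtP Λ X)

instance : (restrPMod Λ j).Additive where map_add := rfl

instance : (restrPMod Λ j).Linear Λ where map_smul _ _ := rfl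

theorem isQuot_extPMod {I : Ideal Λ} {F Q : EtModW.ModP Λ U} {p : F ⟶ Q} (hp : ARSys.IsQuot I p) :
    ARSys.IsQuot I ((extPMod Λ j).map p) :=
  H18Adic.isQuot_map (adjExt Λ j) hp

variable [hje : Etale j] [ProEtS.EpsCont U] [ProEtS.EpsCont X]
  [(MorphismProperty.Over.map (P := EtCoh.etaleMP.{u}) ⊤ (f := j) hje).IsContinuous U.smallEtaleTopology X.smallEtaleTopology]
  [((MorphismProperty.Over.map (P := EtCoh.etaleMP.{u}) ⊤ (f := j) hje).sheafPushforwardContinuous (ModuleCat.{u + 1} Λ) U.smallEtaleTopology X.smallEtaleTopology).IsRightAdjoint]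

omit [IsOpenImmersion j] [QuasiCompact j] in
theorem nonempty_extPMod_eps : Nonempty (EtModW.epsPullMod Λ U ⋙ extPMod Λ j ≅
    (MorphismProperty.Over.map (P := EtCoh.etaleMP.{u}) ⊤ (f := j) hje).sheafPullback (ModuleCat.{u + 1} Λ)
      U.smallEtaleTopology X.smallEtaleTopology ⋙ EtModW.epsPullMod Λ X) := by
  let m := MorphismProperty.Over.map (P := EtCoh.etaleMP.{u}) ⊤ (f := j) hje
  let σ : ProEtS.eps U ⋙ ProEtS.compP j ≅ m ⋙ ProEtS.eps X :=
    NatIso.ofComponents (fun V => MorphismProperty.Over.isoMk (Iso.refl _) (Category.id_comp _)) fun f => by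
      apply MorphismProperty.Over.Hom.ext
      change ((ProEtS.compP j).map ((ProEtS.eps U).map f)).left ≫ 𝟙 _ = 𝟙 _ ≫ (m.map f).left
      exact ((Category.comp_id _).trans rfl).trans (Category.id_comp _).symm
  let A := ModuleCat.{u + 1} Λ
  let a₁ := ((ProEtS.eps U).sheafAdjunctionContinuous A U.smallEtaleTopology (Scheme.ProEt.topology U)).comp
    (adjExt Λ j)
  let a₂ := (m.sheafAdjunctionContinuous A U.smallEtaleTopology X.smallEtaleTopology).comp
    ((ProEtS.eps X).sheafAdjunctionContinuous A X.smallEtaleTopology (Scheme.ProEt.topology X))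
  let e : (ProEtS.eps X).sheafPushforwardContinuous A X.smallEtaleTopology (Scheme.ProEt.topology X) ⋙
        m.sheafPushforwardContinuous A U.smallEtaleTopology X.smallEtaleTopology ≅
      restrPMod Λ j ⋙ (ProEtS.eps U).sheafPushforwardContinuous A U.smallEtaleTopology (Scheme.ProEt.topology U) :=
    NatIso.ofComponents (fun F => (fullyFaithfulSheafToPresheaf _ _).preimageIso
      (Functor.isoWhiskerRight (NatIso.op σ) F.obj)) fun {F G} φ => by
      refine Sheaf.hom_ext (NatTrans.ext (funext fun V => ?_))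
      exact (φ.hom.naturality (σ.hom.app V.unop).op).symm
  exact ⟨a₁.leftAdjointUniq (a₂.ofNatIsoRight e)⟩

end Groth.Agent.H18EpsMod
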