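import Groth.Agent.H18EpsMod.ClosedPush
import Groth.Agent.H18EpsMod.OpenShriek
import Groth.Agent.H15Site.HUBasic
import Groth.Agent.S0726

/-!
The recollement sequence for pro-étale sheaves of modules.
-/

set_option autoImplicit false
set_option backward.isDefEq.respectTransparency false
universe v w u

open CategoryTheory CategoryTheory.Limits AlgebraicGeometry Opposite

namespace Groth.Agent.H18EpsMod

namespace Gen

variable (Λ : Type (u + 1)) [CommRing Λ] {C D : Type (u + 1)} [Category.{u} C] [Category.{u} D]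
  (J : GrothendieckTopology C) (K : GrothendieckTopology D) (e : C ⥤ D) [e.IsContinuous J K]

theorem cmp_counit (M : Sheaf K (ModuleCat.{u + 1} Λ)) :
    (cmp Λ J K e).app ((e.sheafPushforwardContinuous (ModuleCat.{u + 1} Λ) J K).obj M) ≫
        (fg Λ K).map ((adjM Λ J K e).counit.app M) =
      (adjA J K e).counit.app ((fg Λ K).obj M) := by
  refine ((adjA J K e).homEquiv _ _).injective ?_
  rw [Adjunction.homEquiv_unit, Adjunction.homEquiv_unit, Functor.map_comp, ← Category.assoc, unit_cmp]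
  refine Eq.trans ?_ ((adjA J K e).right_triangle_components ((fg Λ K).obj M)).symm
  refine ((fg Λ J).map_comp _ ((e.sheafPushforwardContinuous (ModuleCat.{u + 1} Λ) J K).map
    ((adjM Λ J K e).counit.app M))).symm.trans ?_
  exact (congrArg (fg Λ J).map ((adjM Λ J K e).right_triangle_components M)).trans ((fg Λ J).map_id _)

end Gen

variable (Λ : Type (u + 1)) [CommRing Λ] {U Z X : Scheme.{u}} (j : U ⟶ X) [IsOpenImmersion j] [QuasiCompact j]
  [WeaklyEtale j] [ProEtS.JPCont j] (i : Z ⟶ X) [IsClosedImmersion i] [ProEtS.PCont i]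

/-- Inverse image on pro-étale sheaves of modules. -/
noncomputable abbrev pullPMod : EtModW.ModP Λ X ⥤ EtModW.ModP Λ Z :=
  (ProEtS.bcP i).sheafPullback (ModuleCat.{u + 1} Λ) (Scheme.ProEt.topology X) (Scheme.ProEt.topology Z)

theorem preservesEpimorphisms_fgtP (T : Scheme.{u}) : (fgtP Λ T).PreservesEpimorphisms := ⟨fun f hf => by
  haveI : Sheaf.IsLocallySurjective ((fgtP Λ T).map f) :=
    ⟨fun {V} s => ((Sheaf.isLocallySurjective_iff_epi' _ f).2 inferInstance).imageSieve_mem (U := V) s⟩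
  exact (Sheaf.isLocallySurjective_iff_epi' _ _).1 inferInstance⟩

/-- The short exact sequence. -/
theorem exists_recollement (hc : Set.range j.base = (Set.range i.base)ᶜ) (F : EtModW.ModP Λ X) :
    ∃ S : ShortComplex (EtModW.ModP Λ X), S.ShortExact ∧ S.X₁ = (extPMod Λ j).obj ((restrPMod Λ j).obj F) ∧
      S.X₂ = F ∧ S.X₃ = (pushPMod Λ i).obj ((pullPMod Λ i).obj F) := by
  let K := Scheme.ProEt.topology X
  let a : (extPMod Λ j).obj ((restrPMod Λ j).obj F) ⟶ F := (adjExt Λ j).counit.app F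
  let b : F ⟶ (pushPMod Λ i).obj ((pullPMod Λ i).obj F) :=
    (Gen.adjM Λ K (Scheme.ProEt.topology Z) (ProEtS.bcP i)).unit.app F
  obtain ⟨w, hS⟩ := S0726.result i j hc ((fgtP Λ X).obj F)
  haveI := preservesFiniteLimits_fgtP Λ X
  haveI := preservesEpimorphisms_fgtP Λ X
  haveI : (fgtP Λ X).Additive := Functor.additive_of_preserves_binary_products _
  haveI : PreservesFiniteColimits (fgtP Λ X) :=
    H15Site.HUBasic.preservesFiniteColimits_of_epi _ fun _ _ f hf => (fgtP Λ X).map_epi f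
  let c₁ : (ProEtS.extZeroP j).obj ((ProEtS.restrP j).obj ((fgtP Λ X).obj F)) ≅
      (fgtP Λ X).obj ((extPMod Λ j).obj ((restrPMod Λ j).obj F)) :=
    (Gen.cmpIso Λ (Scheme.ProEt.topology U) K (ProEtS.compP j)).app ((restrPMod Λ j).obj F)
  let c₃ : (ProEtS.pushP i).obj ((ProEtS.pullP i).obj ((fgtP Λ X).obj F)) ≅
      (fgtP Λ X).obj ((pushPMod Λ i).obj ((pullPMod Λ i).obj F)) :=
    (ProEtS.pushP i).mapIso ((Gen.cmpIso Λ K (Scheme.ProEt.topology Z) (ProEtS.bcP i)).app F)
  have e₁ : c₁.hom ≫ (fgtP Λ X).map a = (ProEtS.extZeroPAdj j).counit.app ((fgtP Λ X).obj F) :=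
    Gen.cmp_counit Λ (Scheme.ProEt.topology U) K (ProEtS.compP j) F
  have e₂ : (ProEtS.pullPushAdjP i).unit.app ((fgtP Λ X).obj F) ≫ c₃.hom = (fgtP Λ X).map b :=
    Gen.unit_cmp Λ K (Scheme.ProEt.topology Z) (ProEtS.bcP i) F
  have hab : a ≫ b = 0 := by
    refine (fgtP Λ X).map_injective ((cancel_epi c₁.hom).1 ?_)
    rw [Functor.map_zero, comp_zero, Functor.map_comp, ← Category.assoc, e₁, ← e₂, ← Category.assoc, w, zero_comp]
  let S := ShortComplex.mk a b hab
  let eS : ShortComplex.mk _ _ w ≅ S.map (fgtP Λ X) :=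
    ShortComplex.isoMk c₁ (Iso.refl _) c₃ (e₁.trans (Category.comp_id _).symm)
      ((Category.id_comp _).trans e₂.symm)
  have h := ShortComplex.shortExact_of_iso eS hS
  refine ⟨S, ?_, rfl, rfl, rfl⟩
  exact
    { exact := (S.exact_map_iff_of_faithful (fgtP Λ X)).1 h.exact
      mono_f := (fgtP Λ X).mono_of_mono_map h.mono_f
      epi_g := (fgtP Λ X).epi_of_epi_map h.epi_g }

omit [QuasiCompact j] [IsOpenImmersion j] in
theorem nonempty_restr_iso_pull [ProEtS.PCont j] :
    Nonempty (restrPMod Λ j ≅ pullPMod Λ j) :=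
  ⟨((MorphismProperty.Over.mapPullbackAdj (P := @WeaklyEtale) (Q := ⊤) j (show WeaklyEtale j from inferInstance)
      trivial).sheafPushforwardContinuous (E := ModuleCat.{u + 1} Λ) (Scheme.ProEt.topology U)
      (Scheme.ProEt.topology X)).leftAdjointUniq
    ((ProEtS.bcP j).sheafAdjunctionContinuous (ModuleCat.{u + 1} Λ) (Scheme.ProEt.topology X) (Scheme.ProEt.topology U))⟩

end Groth.Agent.H18EpsMod
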