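import Groth.Agent.H18EpsMod.Exact
import Groth.Agent.H18EpsMod.LimExact
import Groth.Agent.H26ProEt.WC

/-!
The essential image of `ε⁻¹` is detected on underlying abelian sheaves; transport of adic towers; quotient
maps by an arbitrary ideal on weakly contractible objects.
-/

set_option autoImplicit false
set_option backward.isDefEq.respectTransparency false
universe w u

open CategoryTheory CategoryTheory.Limits AlgebraicGeometry Opposite

namespace Groth.Agent.H18EpsMod

variable (Λ : Type (u + 1)) [CommRing Λ] {X : Scheme.{u}}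

section EssImage

variable [ProEtS.EpsCont X]

theorem isIso_counit_of_ab (M : EtModW.ModP Λ X) (A : EtCoh.Ab X)
    (e : (ProEtS.epsPull X).obj A ≅ (fgtP Λ X).obj M) : IsIso ((adjMod Λ X).counit.app M) := by
  haveI : ∀ B, IsIso ((ProEtS.epsAdj X).unit.app B) := fun B => H1EpsS.isIso_unit B
  haveI : IsIso ((ProEtS.epsAdj X).counit.app ((ProEtS.epsPull X).obj A)) :=
    IsIso.of_isIso_fac_left ((ProEtS.epsAdj X).left_triangle_components A)
  haveI : IsIso ((ProEtS.epsAdj X).counit.app ((fgtP Λ X).obj M)) :=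
    (NatTrans.isIso_app_iff_of_iso (ProEtS.epsAdj X).counit e).1 inferInstance
  have key : (cmp Λ X).app ((pushMod Λ X).obj M) ≫ (fgtP Λ X).map ((adjMod Λ X).counit.app M) =
      (ProEtS.epsAdj X).counit.app ((fgtP Λ X).obj M) := by
    refine ((ProEtS.epsAdj X).homEquiv _ _).injective ?_
    rw [Adjunction.homEquiv_unit, Adjunction.homEquiv_unit, Functor.map_comp, ← Category.assoc, unit_cmp]
    refine Eq.trans ?_ ((ProEtS.epsAdj X).right_triangle_components ((fgtP Λ X).obj M)).symm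
    refine ((fgt Λ X).map_comp _ ((pushMod Λ X).map ((adjMod Λ X).counit.app M))).symm.trans ?_
    exact (congrArg (fgt Λ X).map ((adjMod Λ X).right_triangle_components M)).trans ((fgt Λ X).map_id _)
  haveI := isIso_cmp_app Λ ((pushMod Λ X).obj M)
  haveI : IsIso ((cmp Λ X).app ((pushMod Λ X).obj M) ≫ (fgtP Λ X).map ((adjMod Λ X).counit.app M)) :=
    key ▸ ‹IsIso ((ProEtS.epsAdj X).counit.app ((fgtP Λ X).obj M))›
  haveI := IsIso.of_isIso_comp_left ((cmp Λ X).app ((pushMod Λ X).obj M)) ((fgtP Λ X).map ((adjMod Λ X).counit.app M))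
  exact isIso_of_reflects_iso _ (fgtP Λ X)

end EssImage

/-- Elements killed by a quotient map lie in the ideal times the sections, over weakly contractible affine objects. -/
theorem mem_smul_of_isQuot {I : Ideal Λ} {F Q : EtModW.ModP Λ X} {p : F ⟶ Q} (hp : ARSys.IsQuot I p)
    {V : X.ProEt} (hVa : IsAffine V.left) (hV : ProEtS.IsWC V) (x : (H18Adic.secF V).obj F)
    (hx : ((H18Adic.secF V).map p).hom x = 0) : x ∈ I • (⊤ : Submodule Λ ((H18Adic.secF V).obj F)) := by
  haveI := hVa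
  let N : ∀ W : X.ProEtᵒᵖ, Submodule Λ (F.obj.obj W) := fun W => I • ⊤
  have hN : ∀ {W W' : X.ProEtᵒᵖ} (f : W ⟶ W'), N W ≤ (N W').comap (F.obj.map f).hom := fun f => by
    rw [← Submodule.map_le_iff_le_comap, Submodule.map_smul'']
    exact Submodule.smul_mono le_rfl le_top
  let P : X.ProEtᵒᵖ ⥤ ModuleCat.{u + 1} Λ :=
    { obj := fun W => ModuleCat.of Λ (F.obj.obj W ⧸ N W)
      map := fun {W W'} f => ModuleCat.ofHom ((N W).mapQ (N W') (F.obj.map f).hom (hN f))
      map_id := fun W => by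
        refine ModuleCat.hom_ext (Submodule.linearMap_qext _ (LinearMap.ext fun y => ?_))
        exact congrArg (Submodule.Quotient.mk (p := N W))
          (LinearMap.congr_fun (congrArg ModuleCat.Hom.hom (F.obj.map_id W)) y)
      map_comp := fun {W W' W''} f g => by
        refine ModuleCat.hom_ext (Submodule.linearMap_qext _ (LinearMap.ext fun y => ?_))
        exact congrArg (Submodule.Quotient.mk (p := N W''))
          (LinearMap.congr_fun (congrArg ModuleCat.Hom.hom (F.obj.map_comp f g)) y) }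
  let K := Scheme.ProEt.topology X
  let π : F.obj ⟶ P := { app := fun W => ModuleCat.ofHom (N W).mkQ, naturality := fun _ _ _ => rfl }
  let S : EtModW.ModP Λ X := (presheafToSheaf K (ModuleCat.{u + 1} Λ)).obj P
  let c : F ⟶ S := ⟨π ≫ toSheafify K P⟩
  have hc : ARSys.HomKilledBy I c := fun a ha => by
    refine Sheaf.hom_ext (NatTrans.ext (funext fun W => ModuleCat.hom_ext (LinearMap.ext fun y => ?_)))
    change a • ((toSheafify K P).app W).hom ((π.app W).hom y) = 0
    rw [← map_smul, ← map_smul]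
    rw [show (π.app W).hom (a • y) = 0 from
      (Submodule.Quotient.mk_eq_zero _).2 (Submodule.smul_mem_smul ha Submodule.mem_top), map_zero]
  obtain ⟨ψ, hψ, -⟩ := hp.2 S c hc
  have hcx : ((toSheafify K P).app (op V)).hom ((π.app (op V)).hom x) = 0 := by
    change ((H18Adic.secF V).map c).hom x = 0
    rw [← hψ, ← sec_comp, hx, map_zero]
  obtain ⟨n, W, hW, hR⟩ := H26ProEt.refines_of_splits (H26ProEt.splits_of_isWC hV) _
    (Presheaf.equalizerSieve_mem K (toSheafify K P) ((π.app (op V)).hom x) 0 (hcx.trans (map_zero _).symm))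
  have hk : ∀ k, (F.obj.map (H26ProEt.pieceHom V (W k)).op).hom x ∈
      I • (⊤ : Submodule Λ (F.obj.obj (op (H26ProEt.pieceObj V (W k))))) := fun k => by
    have h := hR k
    refine (Submodule.Quotient.mk_eq_zero (N (op (H26ProEt.pieceObj V (W k))))).1 ?_
    exact (show (P.map (H26ProEt.pieceHom V (W k)).op).hom ((π.app (op V)).hom x) =
      (P.map (H26ProEt.pieceHom V (W k)).op).hom 0 from h).trans (map_zero _)
  have hS : Presieve.IsSheaf K (F.obj ⋙ CategoryTheory.forget (ModuleCat.{u + 1} Λ)) :=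
    (isSheaf_iff_isSheaf_of_type _ _).1 ((Presheaf.isSheaf_iff_isSheaf_forget _ _ _).1 F.property)
  let T : (H18Adic.secF V).obj F →ₗ[Λ] ∀ k, F.obj.obj (op (H26ProEt.pieceObj V (W k))) :=
    LinearMap.pi fun k => (F.obj.map (H26ProEt.pieceHom V (W k)).op).hom
  have hbij : Function.Bijective T := by
    refine ⟨fun a b hab => ?_, fun t => ?_⟩
    · exact (hW.existsUnique_section hS fun k => (F.obj.map (H26ProEt.pieceHom V (W k)).op).hom b).unique
        (fun k => congrFun hab k) fun k => rfl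
    · obtain ⟨a, ha, -⟩ := hW.existsUnique_section hS t
      exact ⟨a, funext ha⟩
  have hTx : T x ∈ I • (⊤ : Submodule Λ (∀ k, F.obj.obj (op (H26ProEt.pieceObj V (W k))))) := by
    rw [← Finset.univ_sum_single (T x)]
    refine Submodule.sum_mem _ fun k _ => ?_
    refine Submodule.smul_mono le_rfl (le_top (a := Submodule.map
      (LinearMap.single Λ (fun k => F.obj.obj (op (H26ProEt.pieceObj V (W k)))) k) ⊤)) ?_
    rw [← Submodule.map_smul'']
    exact ⟨_, hk k, rfl⟩
  rw [← LinearMap.range_eq_top.2 hbij.2, LinearMap.range_eq_map, ← Submodule.map_smul''] at hTx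
  obtain ⟨y, hy, hyx⟩ := hTx
  exact hbij.1 hyx ▸ hy

/-- Factor through an epimorphism from sections on weakly contractible affine objects. -/
theorem isQuot_of_sections {I : Ideal Λ} {F Q : EtModW.ModP Λ X} {p : F ⟶ Q} (hQ : ARSys.KilledBy I Q)
    (hs : ∀ V : X.ProEt, IsAffine V.left → ProEtS.IsWC V → Function.Surjective ((H18Adic.secF V).map p).hom ∧
      ∀ x, ((H18Adic.secF V).map p).hom x = 0 → x ∈ I • (⊤ : Submodule Λ ((H18Adic.secF V).obj F))) :
    ARSys.IsQuot I p := by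
  have hwc : ∀ (V : X.ProEt), IsAffine V.left → EtPBC.IsWContractible Γ(V.left, ⊤) → ProEtS.IsWC V := fun V hV hw =>
    haveI := hV; H26ProEt.isWC_of_refines (H26ProEt.refines_of_splits (H26ProEt.splits_iff.1 hw))
  haveI : Epi p := H1DC.epi_of_surjective _ fun V hVa hV => (hs V hVa hV).1
  refine ⟨hQ, fun Z φ hφ => ?_⟩
  have h0 : kernel.ι p ≫ φ = 0 := H18Adic.eq_zero_of_wc _ fun V hVa hw z => by
    have hz : ((H18Adic.secF V).map p).hom (((H18Adic.secF V).map (kernel.ι p)).hom z) = 0 := by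
      rw [sec_comp, kernel.condition, sec_zero]
    rw [← sec_comp]
    refine Submodule.smul_induction_on ((hs V hVa hw).2 _ hz) (fun c hc u _ => ?_) (fun u v hu hv => ?_)
    · rw [map_smul]
      exact congrArg (fun f => ((H18Adic.secF V).map f).hom u) (hφ c hc)
    · rw [map_add, hu, hv, add_zero]
  have hc := (ShortComplex.exact_of_f_is_kernel (ShortComplex.mk _ _ (kernel.condition p))
    (kernelIsKernel _)).gIsCokernel
  refine ⟨hc.desc (CokernelCofork.ofπ φ h0), hc.fac (CokernelCofork.ofπ φ h0) WalkingParallelPair.one, fun w hw => ?_⟩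
  rw [← cancel_epi p, hw]
  exact (hc.fac (CokernelCofork.ofπ φ h0) WalkingParallelPair.one).symm

section Tower

variable [ProEtS.EpsCont X] {Y : Scheme.{u}} [ProEtS.EpsCont Y]

/-- A functor preserving quotient maps, limits of towers and pullbacks of constructible sheaves preserves adic
sheaves. -/
theorem exists_tower_map (I : Ideal Λ) (Φ : EtModW.ModP Λ X ⥤ EtModW.ModP Λ Y)
    [PreservesLimitsOfShape ℕᵒᵖ Φ]
    (hquot : ∀ (n : ℕ) (F Q : EtModW.ModP Λ X) (p : F ⟶ Q), ARSys.IsQuot (I ^ n) p → ARSys.IsQuot (I ^ n) (Φ.map p))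
    (hcons : ∀ E : EtModW.Mod Λ X, EtModW.IsConstructible Λ E → ∃ E' : EtModW.Mod Λ Y,
      EtModW.IsConstructible Λ E' ∧
        Nonempty ((EtModW.epsPullMod Λ Y).obj E' ≅ Φ.obj ((EtModW.epsPullMod Λ X).obj E)))
    (F : EtModW.ModP Λ X)
    (hF : (∃ (Q : ℕᵒᵖ ⥤ EtModW.ModP Λ X) (p : (Functor.const ℕᵒᵖ).obj F ⟶ Q),
        (∀ n : ℕ, ARSys.IsQuot (I ^ (n + 1)) (p.app (op n))) ∧
        (∀ n : ℕ, ∃ E : EtModW.Mod Λ X, EtModW.IsConstructible Λ E ∧
          Nonempty ((EtModW.epsPullMod Λ X).obj E ≅ Q.obj (op n))) ∧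
        IsIso (limit.lift Q (Cone.mk F p)))) :
    ∃ (Q : ℕᵒᵖ ⥤ EtModW.ModP Λ Y) (p : (Functor.const ℕᵒᵖ).obj (Φ.obj F) ⟶ Q),
      (∀ n : ℕ, ARSys.IsQuot (I ^ (n + 1)) (p.app (op n))) ∧
      (∀ n : ℕ, ∃ E : EtModW.Mod Λ Y, EtModW.IsConstructible Λ E ∧
        Nonempty ((EtModW.epsPullMod Λ Y).obj E ≅ Q.obj (op n))) ∧
      IsIso (limit.lift Q (Cone.mk (Φ.obj F) p)) := by
  obtain ⟨Q, p, hp, hc, hl⟩ := hF
  refine ⟨Q ⋙ Φ, (Φ.mapCone (Cone.mk F p)).π, fun n => hquot _ _ _ _ (hp n), fun n => ?_, ?_⟩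
  · obtain ⟨E, hE, ⟨e⟩⟩ := hc n
    obtain ⟨E', hE', ⟨e'⟩⟩ := hcons E hE
    exact ⟨E', hE', ⟨e' ≪≫ Φ.mapIso e⟩⟩
  · have h : limit.lift (Q ⋙ Φ) (Φ.mapCone (Cone.mk F p)) =
        Φ.map (limit.lift Q (Cone.mk F p)) ≫ (preservesLimitIso Φ Q).hom := limit.hom_ext fun j => by
      rw [limit.lift_π, Category.assoc, preservesLimitIso_hom_π, ← Φ.map_comp, limit.lift_π]
      rfl
    change IsIso (limit.lift (Q ⋙ Φ) (Φ.mapCone (Cone.mk F p)))
    rw [h]
    infer_instance

end Tower

end Groth.Agent.H18EpsMod
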