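import Groth.Prelude.Def_EtModW

/-!
Trivializations of module sheaves over an object by a map from a module into the sections.
-/

set_option autoImplicit false
set_option backward.isDefEq.respectTransparency false
universe w v v' u'

open CategoryTheory CategoryTheory.Limits Opposite

namespace Groth.Agent.H18EpsMod

variable {C : Type u'} [Category.{v'} C] (J : GrothendieckTopology C)

/-- A class of nonempty objects: coverings of these have nonempty members, the others are covered by nothing. -/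
structure NEAx (NE : C → Prop) : Prop where
  exists_mem : ∀ ⦃Y : C⦄, NE Y → ∀ R ∈ J Y, ∃ (Z : C) (f : Z ⟶ Y), R f ∧ NE Z
  empty : ∀ ⦃Y : C⦄, ¬ NE Y → ⊥ ∈ J Y

variable {J} (NE : C → Prop) {Λ : Type w} [CommRing Λ] {F : Sheaf J (ModuleCat.{v} Λ)} {U : C}
  {M : Type v} [AddCommGroup M] [Module Λ M]

/-- `ρ` presents `F` over `U` as the constant sheaf on `M`. -/
def LocBij (F : Sheaf J (ModuleCat.{v} Λ)) {U : C} (ρ : M →ₗ[Λ] F.obj.obj (op U)) : Prop :=
  (∀ ⦃Y : C⦄ (g : Y ⟶ U), NE Y → ∀ m m' : M, F.obj.map g.op (ρ m) = F.obj.map g.op (ρ m') → m = m') ∧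
  ∀ ⦃Y : C⦄ (g : Y ⟶ U) (s : F.obj.obj (op Y)), ∃ R ∈ J Y, ∀ ⦃Z : C⦄ (h : Z ⟶ Y), R h →
    ∃ m, F.obj.map (h ≫ g).op (ρ m) = F.obj.map h.op s

variable {NE} {ρ : M →ₗ[Λ] F.obj.obj (op U)}

theorem map_map_sec (F : Sheaf J (ModuleCat.{v} Λ)) {A B D : C} (g : B ⟶ A) (h : D ⟶ B)
    (s : F.obj.obj (op A)) : F.obj.map h.op (F.obj.map g.op s) = F.obj.map (h ≫ g).op s := by
  rw [op_comp, F.obj.map_comp]; rfl

theorem LocBij.comp (hρ : LocBij NE F ρ) {U' : C} (a : U' ⟶ U) :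
    LocBij NE F ((F.obj.map a.op).hom ∘ₗ ρ) := by
  refine ⟨fun Y g hY m m' h => hρ.1 (g ≫ a) hY m m' ?_, fun Y g s => ?_⟩
  · rw [← map_map_sec, ← map_map_sec]; exact h
  · obtain ⟨R, hR, hm⟩ := hρ.2 (g ≫ a) s
    refine ⟨R, hR, fun Z h hh => (hm h hh).imp fun m e => ?_⟩
    rw [← e, ← Category.assoc]
    exact map_map_sec F a (h ≫ g) (ρ m)

theorem LocBij.of_cover (hax : NEAx J NE) {S : Sieve U} (hS : S ∈ J U)
    (h : ∀ ⦃U' : C⦄ (a : U' ⟶ U), S a → LocBij NE F ((F.obj.map a.op).hom ∘ₗ ρ)) : LocBij NE F ρ := by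
  refine ⟨fun Y g hY m m' e => ?_, fun Y g s => ?_⟩
  · obtain ⟨Z, f, hf, hZ⟩ := hax.exists_mem hY _ (J.pullback_stable g hS)
    refine (h (f ≫ g) hf).1 (𝟙 Z) hZ m m' ?_
    have e' := congrArg (F.obj.map f.op) e
    rw [map_map_sec, map_map_sec] at e'
    exact congrArg (F.obj.map (𝟙 Z).op) e'
  · choose R hR hm using fun (Z : C) (f : Z ⟶ Y) (hf : S.pullback g f) =>
      (h (f ≫ g) hf).2 (𝟙 Z) (F.obj.map f.op s)
    refine ⟨Sieve.bind (S.pullback g).arrows R, J.bind_covering (J.pullback_stable g hS) (fun Z f hf => hR Z f hf),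
      fun W hom hh => ?_⟩
    obtain ⟨Z, b, f, hf, hb, rfl⟩ := hh
    obtain ⟨m, e⟩ := hm Z f hf b hb
    refine ⟨m, ?_⟩
    rw [← map_map_sec F f b s, ← e, Category.assoc, Category.comp_id]
    exact (map_map_sec F (f ≫ g) b (ρ m)).symm

/-- Two presentations of `F` over a nonempty object differ by a bijection. -/
theorem LocBij.bijective (hax : NEAx J NE) {N : Type v} [AddCommGroup N] [Module Λ N]
    {σ : N →ₗ[Λ] F.obj.obj (op U)} (hρ : LocBij NE F ρ) (hσ : LocBij NE F σ) (hU : NE U) (φ : M →ₗ[Λ] N)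
    (e : σ ∘ₗ φ = ρ) : Function.Bijective φ := by
  refine ⟨fun m m' h => hρ.1 (𝟙 U) hU m m' ?_, fun n => ?_⟩
  · rw [← e, LinearMap.comp_apply, LinearMap.comp_apply, h]
  · obtain ⟨R, hR, hm⟩ := hρ.2 (𝟙 U) (σ n)
    obtain ⟨Z, f, hf, hZ⟩ := hax.exists_mem hU R hR
    obtain ⟨m, hm⟩ := hm f hf
    refine ⟨m, hσ.1 f hZ _ _ ?_⟩
    rw [Category.comp_id, ← e] at hm
    exact hm

theorem LocBij.of_bijective {N : Type v} [AddCommGroup N] [Module Λ N]
    {σ : N →ₗ[Λ] F.obj.obj (op U)} (hσ : LocBij NE F σ) {φ : M →ₗ[Λ] N} (hφ : Function.Bijective φ)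
    (e : σ ∘ₗ φ = ρ) : LocBij NE F ρ := by
  subst e
  refine ⟨fun Y g hY m m' h => hφ.1 (hσ.1 g hY _ _ h), fun Y g s => ?_⟩
  obtain ⟨R, hR, hm⟩ := hσ.2 g s
  refine ⟨R, hR, fun Z h hh => ?_⟩
  obtain ⟨n, hn⟩ := hm h hh
  obtain ⟨m, rfl⟩ := hφ.2 n
  exact ⟨m, hn⟩

variable (F ρ) in
/-- The map from the constant presheaf on `M` given by `ρ`. -/
def toPre : (Functor.const (Over U)ᵒᵖ).obj (ModuleCat.of Λ M) ⟶ (F.over U).obj where
  app V := ModuleCat.ofHom ((F.obj.map V.unop.hom.op).hom ∘ₗ ρ)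
  naturality V W f := by
    refine ModuleCat.hom_ext (LinearMap.ext fun m => ?_)
    show F.obj.map W.unop.hom.op (ρ m) = F.obj.map f.unop.left.op (F.obj.map V.unop.hom.op (ρ m))
    rw [map_map_sec]
    exact congrArg (fun q => F.obj.map (Quiver.Hom.op q) (ρ m)) (Over.w f.unop).symm

theorem LocBij.toPre_locallyBijective (hax : NEAx J NE) (hρ : LocBij NE F ρ) :
    Presheaf.IsLocallyInjective (J.over U) (toPre F ρ) ∧ Presheaf.IsLocallySurjective (J.over U) (toPre F ρ) := by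
  classical
  refine ⟨⟨fun {V} (m m' : M) h => ?_⟩, ⟨fun {V} s => ?_⟩⟩
  · rw [GrothendieckTopology.mem_over_iff]
    by_cases hV : NE V.unop.left
    · refine J.superset_covering ?_ (J.top_mem _)
      intro Z f _
      exact (Sieve.overEquiv_iff _ f).2 (show m = m' from hρ.1 V.unop.hom hV m m' h)
    · exact J.superset_covering bot_le (hax.empty hV)
  · rw [GrothendieckTopology.mem_over_iff]
    obtain ⟨R, hR, hm⟩ := hρ.2 V.hom s
    refine J.superset_covering ?_ hR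
    intro Z f hf
    exact (Sieve.overEquiv_iff _ f).2 (hm f hf)

theorem exists_locBij_of_iso [HasSheafify (J.over U) (ModuleCat.{v} Λ)]
    [Presheaf.IsLocallyInjective (J.over U)
      (toSheafify (J.over U) ((Functor.const (Over U)ᵒᵖ).obj (ModuleCat.of Λ M)))]
    [Presheaf.IsLocallySurjective (J.over U)
      (toSheafify (J.over U) ((Functor.const (Over U)ᵒᵖ).obj (ModuleCat.of Λ M)))]
    (hax : NEAx J NE)
    (e : F.over U ≅ (constantSheaf (J.over U) (ModuleCat.{v} Λ)).obj (ModuleCat.of Λ M)) :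
    ∃ ρ : M →ₗ[Λ] F.obj.obj (op U), LocBij NE F ρ := by
  haveI : IsIso e.inv.hom := ((sheafToPresheaf _ _).mapIso e.symm).isIso_hom
  let τ : (Functor.const (Over U)ᵒᵖ).obj (ModuleCat.of Λ M) ⟶ (F.over U).obj :=
    toSheafify (J.over U) _ ≫ e.inv.hom
  haveI hs : Presheaf.IsLocallySurjective (J.over U) τ := inferInstance
  haveI hi : Presheaf.IsLocallyInjective (J.over U) τ := inferInstance
  let ρ : M →ₗ[Λ] F.obj.obj (op U) := (τ.app (op (Over.mk (𝟙 U)))).hom
  have key : ∀ {Y : C} (g : Y ⟶ U) (m : M), τ.app (op (Over.mk g)) m = F.obj.map g.op (ρ m) := fun g m =>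
    NatTrans.naturality_apply τ (Over.homMk g (Category.comp_id _) : Over.mk g ⟶ Over.mk (𝟙 U)).op m
  refine ⟨ρ, fun Y g hY m m' h => ?_, fun Y g s => ?_⟩
  · have hm := Presheaf.equalizerSieve_mem (J.over U) τ (X := op (Over.mk g)) m m'
      ((key g m).trans (h.trans (key g m').symm))
    obtain ⟨Z, f, hf, -⟩ := hax.exists_mem hY _ ((GrothendieckTopology.mem_over_iff _ _).1 hm)
    exact (Sieve.overEquiv_iff (Y := Over.mk g) _ f).1 hf
  · refine ⟨_, (GrothendieckTopology.mem_over_iff _ _).1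
      (Presheaf.imageSieve_mem (J.over U) τ (U := op (Over.mk g)) s), fun Z h hh => ?_⟩
    obtain ⟨m, hm⟩ := (Sieve.overEquiv_iff (Y := Over.mk g) _ h).1 hh
    exact ⟨m, (key (h ≫ g) m).symm.trans hm⟩

theorem LocBij.nonempty_over_iso [HasWeakSheafify (J.over U) (ModuleCat.{v} Λ)]
    [(J.over U).WEqualsLocallyBijective (ModuleCat.{v} Λ)] (hax : NEAx J NE) (hρ : LocBij NE F ρ) :
    Nonempty (F.over U ≅ (constantSheaf (J.over U) (ModuleCat.{v} Λ)).obj (ModuleCat.of Λ M)) := by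
  obtain ⟨hi, hs⟩ := hρ.toPre_locallyBijective hax
  have hW : (J.over U).W (toPre F ρ) := (J.over U).W_of_isLocallyBijective _
  have h' : IsIso ((presheafToSheaf (J.over U) (ModuleCat.{v} Λ)).map (toPre F ρ)) :=
    ((J.over U).W_iff _).1 hW
  exact ⟨(asIso ((sheafificationAdjunction (J.over U) (ModuleCat.{v} Λ)).counit.app (F.over U))).symm ≪≫
    (asIso ((presheafToSheaf (J.over U) (ModuleCat.{v} Λ)).map (toPre F ρ))).symm⟩

variable [J.HasSheafCompose (CategoryTheory.forget (ModuleCat.{v} Λ))] [Balanced (Sheaf J (ModuleCat.{v} Λ))]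

/-- A morphism carrying presentations on a covering to presentations is an isomorphism. -/
theorem isIso_of_locBij (hax : NEAx J NE) {G : Sheaf J (ModuleCat.{v} Λ)} (φ : F ⟶ G)
    (h : ∀ V : C, ∃ R ∈ J V, ∀ ⦃U' : C⦄ (a : U' ⟶ V), R a → ∃ (N : Type v) (_ : AddCommGroup N)
      (_ : Module Λ N) (r : N →ₗ[Λ] F.obj.obj (op U')),
        LocBij NE F r ∧ LocBij NE G ((φ.hom.app (op U')).hom ∘ₗ r)) :
    IsIso φ := by
  classical
  refine (Sheaf.isLocallyBijective_iff_isIso φ).1 ⟨⟨fun {V} s s' hss => ?_⟩, ⟨fun {V} t => ?_⟩⟩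
  · obtain ⟨R, hR, hr⟩ := h V.unop
    refine J.transitive hR _ fun U' a ha => ?_
    obtain ⟨N, _, _, r, h₁, h₂⟩ := hr a ha
    obtain ⟨P, hP, hp⟩ := h₁.2 (𝟙 U') (F.obj.map a.op s)
    obtain ⟨P', hP', hp'⟩ := h₁.2 (𝟙 U') (F.obj.map a.op s')
    refine J.transitive (J.intersection_covering hP hP') _ fun Z b hb => ?_
    by_cases hZ : NE Z
    · refine J.superset_covering ?_ (J.top_mem _)
      intro W c _
      obtain ⟨n, hn⟩ := hp b hb.1
      obtain ⟨n', hn'⟩ := hp' b hb.2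
      show F.obj.map ((c ≫ b) ≫ a).op s = F.obj.map ((c ≫ b) ≫ a).op s'
      rw [Category.assoc, ← map_map_sec, ← map_map_sec F (b ≫ a) c, ← map_map_sec F a b,
        ← map_map_sec F a b, ← hn, ← hn']
      congr 3
      refine h₂.1 b hZ n n' ?_
      rw [Category.comp_id] at hn hn'
      show G.obj.map b.op (φ.hom.app _ (r n)) = G.obj.map b.op (φ.hom.app _ (r n'))
      rw [← NatTrans.naturality_apply, ← NatTrans.naturality_apply, hn, hn', map_map_sec, map_map_sec,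
        NatTrans.naturality_apply, NatTrans.naturality_apply]
      exact congrArg _ hss
    · exact J.superset_covering bot_le (hax.empty hZ)
  · obtain ⟨R, hR, hr⟩ := h V
    refine J.transitive hR _ fun U' a ha => ?_
    obtain ⟨N, _, _, r, h₁, h₂⟩ := hr a ha
    obtain ⟨P, hP, hp⟩ := h₂.2 (𝟙 U') (G.obj.map a.op t)
    refine J.superset_covering ?_ hP
    intro Z b hb
    obtain ⟨n, hn⟩ := hp b hb
    refine ⟨F.obj.map b.op (r n), ?_⟩
    rw [Category.comp_id] at hn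
    refine (NatTrans.naturality_apply φ.hom b.op (r n)).trans ?_
    exact hn.trans (map_map_sec G a b t)

end Groth.Agent.H18EpsMod
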