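import Groth.Agent.H18EpsMod.TrivLP

/-!
Finitely presented locally constant module sheaves on the pro-étale site are trivialized étale locally.
-/

set_option autoImplicit false
set_option backward.isDefEq.respectTransparency false
universe u

open CategoryTheory CategoryTheory.Limits AlgebraicGeometry Opposite

namespace Groth.Agent.H18EpsMod

open H26ProEt (pieceObj pieceHom)
open H1EpsS (IsLP IsSchLimit EvEq Lifts)

variable {X : Scheme.{u}} {Λ : Type (u + 1)} [CommRing Λ]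

theorem locBij_of_isEmpty {G : EtModW.ModP Λ X} {U : X.ProEt} {M : Type (u + 1)} [AddCommGroup M] [Module Λ M]
    (ρ : M →ₗ[Λ] G.obj.obj (op U)) (hU : IsEmpty U.left) : LocBij (neP X) G ρ := by
  refine ⟨fun Y g hY => (hU.false (g.left (Classical.choice hY))).elim,
    fun Y g s => ⟨⊥, (neP_ax X).empty fun ⟨y⟩ => hU.false (g.left y), fun Z h hh => hh.elim⟩⟩

theorem exists_pullback_point {A B D : X.ProEt} (f : A ⟶ D) (g : B ⟶ D) {a : A.left} {b : B.left}
    (h : f.left a = g.left b) : Nonempty (pullback f g).left := by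
  obtain ⟨z, -, -⟩ := Scheme.Pullback.exists_preimage_pullback (f := f.left) (g := g.left) a b h
  exact ⟨(H1EpsS.isPullback_left f g).isoPullback.inv z⟩

theorem exists_fin_lift {M : Type (u + 1)} [AddCommGroup M] [Module Λ M] (hfp : Module.FinitePresentation Λ M)
    {G : EtModW.ModP Λ X} (hG : IsLP (G.obj ⋙ forget (ModuleCat.{u + 1} Λ))) {I : Type u} [SmallCategory I]
    [IsCofiltered I] {D : I ⥤ X.ProEt} {c : Cone D} (hc : IsSchLimit c) (hD : ∀ i, IsAffine (D.obj i).left)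
    (hT : IsAffine c.pt.left) (ρ : M →ₗ[Λ] G.obj.obj (op c.pt)) :
    ∃ (j : I) (τ : M →ₗ[Λ] G.obj.obj (op (D.obj j))), (G.obj.map (c.π.app j).op).hom ∘ₗ τ = ρ := by
  classical
  haveI := hfp
  obtain ⟨n, K, e, hK⟩ := Module.FinitePresentation.exists_fin Λ M
  obtain ⟨S, hS⟩ := hK
  let q : (Fin n → Λ) →ₗ[Λ] M := e.symm.toLinearMap ∘ₗ K.mkQ
  have hl : ∀ l : Fin n, Lifts (G.obj ⋙ forget _) c (ρ (q (Pi.single l 1))) := fun l =>
    (hG D c hc hD hT).1 _
  choose jl zl hzl using hl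
  obtain ⟨j₀, hj₀⟩ := IsCofiltered.inf_objs_exists (Finset.univ.image jl)
  let el : ∀ l, j₀ ⟶ jl l := fun l => (hj₀ (Finset.mem_image_of_mem jl (Finset.mem_univ l))).some
  let τ₀ : (Fin n → Λ) →ₗ[Λ] G.obj.obj (op (D.obj j₀)) :=
    Fintype.linearCombination Λ fun l => G.obj.map (D.map (el l)).op (zl l)
  have hτ₀ : (G.obj.map (c.π.app j₀).op).hom ∘ₗ τ₀ = ρ ∘ₗ q := by
    refine LinearMap.pi_ext' fun l => LinearMap.ext_ring ?_
    show G.obj.map (c.π.app j₀).op (τ₀ (Pi.single l 1)) = ρ (q (Pi.single l 1))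
    rw [Fintype.linearCombination_apply_single, one_smul, map_map_sec, c.w]
    exact hzl l
  have hr : ∀ r : S, EvEq D (G.obj ⋙ forget _) (τ₀ r.1) (0 : G.obj.obj (op (D.obj j₀))) := fun r => by
    refine (hG D c hc hD hT).2 j₀ _ _ ?_
    show G.obj.map (c.π.app j₀).op (τ₀ r.1) = G.obj.map (c.π.app j₀).op (0 : G.obj.obj (op (D.obj j₀)))
    rw [map_zero]
    refine (LinearMap.congr_fun hτ₀ r.1).trans ?_
    have h0 : K.mkQ r.1 = 0 := (Submodule.Quotient.mk_eq_zero _).2 (hS ▸ Submodule.subset_span r.2)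
    show ρ (e.symm (K.mkQ r.1)) = 0
    rw [h0, map_zero, map_zero]
  choose k f hf using hr
  obtain ⟨j, p, p', hp⟩ := IsCofiltered.wideCospan f
  have hK0 : K ≤ LinearMap.ker ((G.obj.map (D.map p).op).hom ∘ₗ τ₀) := by
    rw [← hS, Submodule.span_le]
    intro r hrS
    show G.obj.map (D.map p).op (τ₀ r) = 0
    rw [← hp ⟨r, hrS⟩, D.map_comp, ← map_map_sec G (D.map (f ⟨r, hrS⟩)) (D.map (p' ⟨r, hrS⟩))]
    have h := congrArg (G.obj.map (D.map (p' ⟨r, hrS⟩)).op) (hf ⟨r, hrS⟩)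
    refine h.trans ?_
    exact (congrArg _ (map_zero (G.obj.map (D.map (f ⟨r, hrS⟩)).op).hom)).trans (map_zero _)
  refine ⟨j, K.liftQ _ hK0 ∘ₗ e.toLinearMap, LinearMap.ext fun m => ?_⟩
  obtain ⟨v, hv⟩ := Submodule.Quotient.mk_surjective K (e m)
  show G.obj.map (c.π.app j).op (K.liftQ _ hK0 (e m)) = ρ m
  rw [← hv, Submodule.liftQ_apply]
  show G.obj.map (c.π.app j).op (G.obj.map (D.map p).op (τ₀ v)) = ρ m
  rw [map_map_sec, c.w]
  refine (LinearMap.congr_fun hτ₀ v).trans ?_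
  show ρ (e.symm (K.mkQ v)) = ρ m
  rw [Submodule.mkQ_apply, hv, e.symm_apply_apply]

/-- A map into the sections over an affine object of a locally constant sheaf presents the sheaf on an open
subscheme containing every point it presents it at. -/
theorem exists_open_locBij (G : EtModW.ModP Λ X) (hG : EtModW.IsFPLocConstP Λ G) {D : X.ProEt} [IsAffine D.left]
    {M : Type (u + 1)} [AddCommGroup M] [Module Λ M] [Module.Finite Λ M] (τ : M →ₗ[Λ] G.obj.obj (op D)) :
    ∃ O : D.left.Opens, LocBij (neP X) G ((G.obj.map (pieceHom D O).op).hom ∘ₗ τ) ∧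
      ∀ ⦃T : X.ProEt⦄ (t : T ⟶ D), LocBij (neP X) G ((G.obj.map t.op).hom ∘ₗ τ) → ∀ z : T.left, t.left z ∈ O := by
  classical
  obtain ⟨n, q, hq⟩ := Module.Finite.exists_fin' Λ M
  obtain ⟨ι, U, hU, hM⟩ := hG
  choose N hN₁ hN₂ hN₃ hN₄ using hM
  choose σ hσ using fun b => exists_locBij_of_iso (neP_ax X) (hN₄ b).some
  let R : Sieve D := Sieve.mk (fun Z h => ∃ (b : ι) (a : Z ⟶ U b), ∀ l, ∃ m : N b,
      G.obj.map a.op (σ b m) = G.obj.map h.op (τ (q (Pi.single l 1))))
    (fun {Z Z' h} hh v => by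
      obtain ⟨b, a, ha⟩ := hh
      refine ⟨b, v ≫ a, fun l => (ha l).imp fun m hm => ?_⟩
      rw [← map_map_sec G a v, hm, map_map_sec])
  have hR : R ∈ Scheme.ProEt.topology X D := by
    refine (Scheme.ProEt.topology X).transitive ((Scheme.ProEt.topology X).pullback_stable
      (MorphismProperty.Over.homMk D.hom : D ⟶ ProEtS.topP X) hU) _ fun Z h hh => ?_
    obtain ⟨_, a, _, ⟨b⟩, -⟩ := hh
    choose P hP hm using fun l => (hσ b).2 a (G.obj.map h.op (τ (q (Pi.single l 1))))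
    have key : ∀ s : Finset (Fin n), ∃ P' ∈ Scheme.ProEt.topology X Z, ∀ l ∈ s, P' ≤ P l := fun s => by
      induction s using Finset.induction with
      | empty => exact ⟨⊤, (Scheme.ProEt.topology X).top_mem _, fun l hl => absurd hl (Finset.notMem_empty l)⟩
      | @insert l s hl ih =>
        obtain ⟨P', hP', hle⟩ := ih
        refine ⟨P l ⊓ P', (Scheme.ProEt.topology X).intersection_covering (hP l) hP', fun l' hl' => ?_⟩
        rcases Finset.mem_insert.1 hl' with rfl | h'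
        · exact inf_le_left
        · exact inf_le_right.trans (hle l' h')
    obtain ⟨P', hP', hle⟩ := key Finset.univ
    refine (Scheme.ProEt.topology X).superset_covering ?_ hP'
    intro W w hw
    refine ⟨b, w ≫ a, fun l => (hm l w (hle l (Finset.mem_univ l) _ hw)).imp fun m hm' => ?_⟩
    rw [hm', map_map_sec]
  obtain ⟨κ, _, P, g, hPa, hg, hcov, hs⟩ := H1EpsS.exists_finite_affine_surj hR
  choose b a hm using hg
  choose m hm using hm
  let κ' := {k : κ // Nonempty (P k).left}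
  haveI : ∀ k : κ', IsAffine (P k.1).left := fun k => hPa k.1
  haveI : ∀ k : κ', Flat (g k.1).left := fun k =>
    haveI := H1EpsS.weaklyEtale_left (g k.1)
    inferInstance
  have hh : ∀ k : κ', ∃ φ : M →ₗ[Λ] N (b k.1),
      ((G.obj.map (a k.1).op).hom ∘ₗ σ (b k.1)) ∘ₗ φ = (G.obj.map (g k.1).op).hom ∘ₗ τ := fun k => by
    let φ₀ : (Fin n → Λ) →ₗ[Λ] N (b k.1) := Fintype.linearCombination Λ (m k.1)
    have h₀ : ((G.obj.map (a k.1).op).hom ∘ₗ σ (b k.1)) ∘ₗ φ₀ = ((G.obj.map (g k.1).op).hom ∘ₗ τ) ∘ₗ q := by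
      refine LinearMap.pi_ext' fun l => LinearMap.ext_ring ?_
      show G.obj.map (a k.1).op (σ _ (φ₀ (Pi.single l 1))) = G.obj.map (g k.1).op (τ (q (Pi.single l 1)))
      rw [Fintype.linearCombination_apply_single, one_smul]
      exact hm k.1 l
    have hker : LinearMap.ker q ≤ LinearMap.ker φ₀ := fun v hv => by
      refine (hσ (b k.1)).1 (a k.1) k.2 _ _ ((LinearMap.congr_fun h₀ v).trans ?_)
      rw [LinearMap.comp_apply, LinearMap.mem_ker.1 hv, map_zero]
      exact ((congrArg _ (map_zero (σ (b k.1)))).trans (map_zero _)).symm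
    refine ⟨(LinearMap.ker q).liftQ φ₀ hker ∘ₗ (q.quotKerEquivOfSurjective hq).symm.toLinearMap,
      LinearMap.ext fun x => ?_⟩
    obtain ⟨v, rfl⟩ := hq x
    refine Eq.trans ?_ (LinearMap.congr_fun h₀ v)
    show G.obj.map (a k.1).op (σ _ ((LinearMap.ker q).liftQ φ₀ hker ((q.quotKerEquivOfSurjective hq).symm (q v)))) =
      G.obj.map (a k.1).op (σ _ (φ₀ v))
    rw [show (q.quotKerEquivOfSurjective hq).symm (q v) = Submodule.Quotient.mk v from
      (LinearEquiv.symm_apply_eq _).2 rfl, Submodule.liftQ_apply]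
  choose φ hφ using hh
  have hgood : ∀ (k : κ') ⦃Z : X.ProEt⦄ (z : Z ⟶ P k.1), Nonempty Z.left →
      LocBij (neP X) G ((G.obj.map (z ≫ g k.1).op).hom ∘ₗ τ) → Function.Bijective (φ k) := fun k Z z hZ h => by
    refine h.bijective (neP_ax X) (((hσ (b k.1)).comp (a k.1)).comp z) hZ (φ k) ?_
    rw [LinearMap.comp_assoc, hφ k]
    exact LinearMap.ext fun x => map_map_sec G (g k.1) z (τ x)
  have hgood' : ∀ k : κ', Function.Bijective (φ k) → LocBij (neP X) G ((G.obj.map (g k.1).op).hom ∘ₗ τ) :=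
    fun k hk => ((hσ (b k.1)).comp (a k.1)).of_bijective hk (hφ k)
  obtain ⟨O, hO⟩ := exists_open_of_flat_pieces (fun k : κ' => (g k.1).left) (fun k => Function.Bijective (φ k))
    (fun x => by
      obtain ⟨k, y, hy⟩ := hs x
      exact ⟨⟨k, ⟨y⟩⟩, y, hy⟩)
    fun k l y z hyz hk => by
      refine hgood l (pullback.snd (g k.1) (g l.1)) (exists_pullback_point _ _ hyz) ?_
      rw [← pullback.condition]
      have h := (hgood' k hk).comp (pullback.fst (g k.1) (g l.1))
      convert h using 1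
      exact LinearMap.ext fun x => (map_map_sec G (g k.1) (pullback.fst (g k.1) (g l.1)) (τ x)).symm
  refine ⟨O, ?_, fun T t ht z => ?_⟩
  · refine LocBij.of_cover (neP_ax X) ((Scheme.ProEt.topology X).pullback_stable (pieceHom D O) hcov) ?_
    intro W w hw
    obtain ⟨_, v, f, hf, e⟩ := hw
    obtain ⟨k⟩ := hf
    by_cases hW : Nonempty W.left
    · obtain ⟨x⟩ := hW
      have hk : Function.Bijective (φ ⟨k, ⟨v.left x⟩⟩) := (hO ⟨k, ⟨v.left x⟩⟩ (v.left x)).1 (by
        show (v ≫ g k).left x ∈ O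
        rw [e]
        exact (w.left x).2)
      convert (hgood' ⟨k, ⟨v.left x⟩⟩ hk).comp v using 1
      refine LinearMap.ext fun y => ?_
      show G.obj.map w.op (G.obj.map (pieceHom D O).op (τ y)) = G.obj.map v.op (G.obj.map (g k).op (τ y))
      rw [map_map_sec, map_map_sec, e]
    · exact locBij_of_isEmpty _ (not_nonempty_iff.1 hW)
  · obtain ⟨k, y, hy⟩ := hs (t.left z)
    rw [← hy]
    refine (hO ⟨k, ⟨y⟩⟩ y).2 (hgood ⟨k, ⟨y⟩⟩ (pullback.snd t (g k)) (exists_pullback_point _ _ hy.symm) ?_)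
    rw [← pullback.condition]
    convert ht.comp (pullback.fst t (g k)) using 1
    exact LinearMap.ext fun x => (map_map_sec G t (pullback.fst t (g k)) (τ x)).symm

variable [ProEtS.EpsCont X]

theorem exists_etale_locBij (G : EtModW.ModP Λ X) (hG : EtModW.IsFPLocConstP Λ G) :
    ∃ U : X → X.Etale, EtCoh.Covers U ∧ ∀ x, ∃ (M : Type (u + 1)) (_ : AddCommGroup M) (_ : Module Λ M)
      (_ : Module.FinitePresentation Λ M) (ρ : M →ₗ[Λ] G.obj.obj (op ((ProEtS.eps X).obj (U x)))),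
        LocBij (neP X) G ρ := by
  have hLP := isLP_of_isFPLocConstP G hG
  have key : ∀ x : X, ∃ (V : X.Etale) (y : V.left), V.hom y = x ∧ ∃ (M : Type (u + 1)) (_ : AddCommGroup M)
      (_ : Module Λ M) (_ : Module.FinitePresentation Λ M)
      (ρ : M →ₗ[Λ] G.obj.obj (op ((ProEtS.eps X).obj V))), LocBij (neP X) G ρ := by
    intro x
    obtain ⟨ι, U, hU, hM⟩ := id hG
    obtain ⟨W, hW, hxW, -⟩ := exists_isAffineOpen_mem_and_subset (X := X) (x := x) (U := ⊤) trivial
    let B : X.ProEt := pieceObj (ProEtS.topP X) W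
    haveI : IsAffine B.left := hW
    obtain ⟨κ, _, V, g, hV, hg, -, hs⟩ := H1EpsS.exists_finite_affine_surj
      ((Scheme.ProEt.topology X).pullback_stable (pieceHom (ProEtS.topP X) W : B ⟶ ProEtS.topP X) hU)
    obtain ⟨k, y, hy⟩ := hs ⟨x, hxW⟩
    obtain ⟨_, a, _, ⟨b⟩, -⟩ := hg k
    haveI := hV k
    obtain ⟨I, _, _, D, c, d, e, ⟨hc⟩, hT, hD, hd, hes, -, hde⟩ := H1EpsS.exists_indEtale_refinement (g k)
    obtain ⟨z, rfl⟩ := e.left.surjective y
    obtain ⟨M, _, _, hfp, ⟨i⟩⟩ := hM b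
    obtain ⟨σ, hσ⟩ := exists_locBij_of_iso (neP_ax X) i
    have hρ : LocBij (neP X) G ((G.obj.map (e ≫ a).op).hom ∘ₗ σ) := hσ.comp (e ≫ a)
    obtain ⟨j, τ, hτ⟩ := exists_fin_lift hfp hLP hc hD hT _
    haveI := hD j
    haveI := hfp
    obtain ⟨O, hO, hmem⟩ := exists_open_locBij G hG τ
    haveI hDe : Etale (D.obj j).hom := by
      haveI := hd j
      haveI : Etale B.hom := inferInstanceAs (Etale (W.ι ≫ 𝟙 X))
      rw [← MorphismProperty.Over.w (d j)]
      infer_instance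
    haveI hPe : Etale (pieceObj (D.obj j) O).hom := inferInstanceAs (Etale (O.ι ≫ (D.obj j).hom))
    refine ⟨etObj _ hPe, ⟨(c.π.app j).left z, hmem (c.π.app j) (hτ ▸ hρ) z⟩, ?_, M, inferInstance, inferInstance,
      hfp, _, hO.comp (etObjIso _ hPe).hom⟩
    show (D.obj j).hom ((c.π.app j).left z) = x
    have hw : (c.π.app j).left ≫ (D.obj j).hom = (e.left ≫ (g k).left) ≫ B.hom := by
      rw [MorphismProperty.Over.w, Category.assoc, MorphismProperty.Over.w (g k), MorphismProperty.Over.w e]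
      rfl
    refine (congrArg (fun q => q z) (congrArg (fun q : c.pt.left ⟶ X => ⇑q) hw)).trans ?_
    exact congrArg B.hom hy
  choose V y hy hrest using key
  exact ⟨V, fun x => ⟨x, y x, hy x⟩, hrest⟩

/-- Presentations descend along `ε_*`. -/
theorem locBij_push (G : EtModW.ModP Λ X) {U : X.Etale} {M : Type (u + 1)} [AddCommGroup M] [Module Λ M]
    (ρ : M →ₗ[Λ] G.obj.obj (op ((ProEtS.eps X).obj U))) (hρ : LocBij (neP X) G ρ) :
    LocBij (neE X) ((pushMod Λ X).obj G) (ρ : M →ₗ[Λ] ((pushMod Λ X).obj G).obj.obj (op U)) := by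
  classical
  refine ⟨fun Y g hY m m' h => hρ.1 ((ProEtS.eps X).map g) hY m m' h, fun Y g s => ?_⟩
  refine ⟨Sieve.mk (fun Z h => ∃ m : M, ((pushMod Λ X).obj G).obj.map (h ≫ g).op (ρ m) =
      ((pushMod Λ X).obj G).obj.map h.op s) (fun {Z Z' h} hh v => ?_), ?_, fun Z h hh => hh⟩
  · obtain ⟨m, hm⟩ := hh
    refine ⟨m, ?_⟩
    rw [Category.assoc, ← map_map_sec _ _ v, hm, map_map_sec]
  refine H18Et.AffineCriterion.mem_etale_iff.2 fun y => ?_
  haveI : Etale Y.hom := Y.prop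
  obtain ⟨W, hW, hyW, -⟩ := exists_isAffineOpen_mem_and_subset (X := Y.left) (x := y) (U := ⊤) trivial
  let V : X.ProEt := pieceObj ((ProEtS.eps X).obj Y) W
  haveI : IsAffine V.left := hW
  let gV : V ⟶ (ProEtS.eps X).obj U := pieceHom ((ProEtS.eps X).obj Y) W ≫ (ProEtS.eps X).map g
  obtain ⟨R, hR, hm⟩ := hρ.2 gV (G.obj.map (pieceHom ((ProEtS.eps X).obj Y) W).op s)
  obtain ⟨κ, _, P, p, hP, hp, hcov, hs⟩ := H1EpsS.exists_finite_affine_surj hR
  choose m hm using fun k => hm (p k) (hp k)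
  haveI := hP
  haveI : ∀ k, Flat (p k).left := fun k =>
    haveI := H1EpsS.weaklyEtale_left (p k)
    inferInstance
  obtain ⟨k₀, y₀, hy₀⟩ := hs ⟨y, hyW⟩
  have hsep : ∀ (k l : κ) (a : (P k).left) (b : (P l).left), (p k).left a = (p l).left b → m k = m l := by
    intro k l a b hab
    refine hρ.1 (pullback.fst (p k) (p l) ≫ p k ≫ gV) (exists_pullback_point _ _ hab) _ _ ?_
    have h1 := congrArg (G.obj.map (pullback.fst (p k) (p l)).op) (hm k)
    have h2 := congrArg (G.obj.map (pullback.snd (p k) (p l)).op) (hm l)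
    rw [map_map_sec, map_map_sec] at h1 h2
    rw [h1, pullback.condition, pullback.condition_assoc, h2, map_map_sec]
  obtain ⟨O, hO⟩ := exists_open_of_flat_pieces (fun k => (p k).left) (fun k => m k = m k₀) hs
    fun k l a b hab hk => (hsep k l a b hab).symm.trans hk
  haveI hVe : Etale V.hom := inferInstanceAs (Etale (W.ι ≫ Y.hom))
  haveI hPe : Etale (pieceObj V O).hom := inferInstanceAs (Etale (O.ι ≫ V.hom))
  refine ⟨etObj _ hPe, etHom hPe (pieceHom V O ≫ pieceHom ((ProEtS.eps X).obj Y) W),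
    ⟨⟨y, hyW⟩, hy₀ ▸ (hO k₀ y₀).2 rfl⟩, ⟨m k₀, ?_⟩, inferInstanceAs (Etale (O.ι ≫ W.ι)), rfl⟩
  show G.obj.map ((ProEtS.eps X).map (etHom hPe _ ≫ g)).op (ρ (m k₀)) =
    G.obj.map ((ProEtS.eps X).map (etHom hPe _)).op s
  rw [Functor.map_comp, eps_map_etHom, Category.assoc, Category.assoc]
  change G.obj.map ((etObjIso _ hPe).hom ≫ pieceHom V O ≫ gV).op (ρ (m k₀)) = _
  rw [← map_map_sec G (pieceHom V O ≫ gV) (etObjIso _ hPe).hom, ← map_map_sec G _ (etObjIso _ hPe).hom]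
  refine congrArg _ ?_
  have hG : Presieve.IsSheaf (Scheme.ProEt.topology X) (G.obj ⋙ forget (ModuleCat.{u + 1} Λ)) :=
    (isSheaf_iff_isSheaf_of_type _ _).1 ((Presheaf.isSheaf_iff_isSheaf_forget _ _ _).1 G.property)
  refine (hG _ ((Scheme.ProEt.topology X).pullback_stable (pieceHom V O) hcov)).isSeparatedFor.ext ?_
  intro Z z hz
  rename' Y => Y₀
  obtain ⟨_, v, f, hf, e⟩ := hz
  obtain ⟨k⟩ := hf
  refine ((map_map_sec G (pieceHom V O ≫ gV) z (ρ (m k₀))).trans ?_).trans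
    (map_map_sec G (pieceHom V O ≫ pieceHom ((ProEtS.eps X).obj Y₀) W) z s).symm
  rw [← Category.assoc, ← e, ← Category.assoc z, ← e]
  have h1 := ((map_map_sec G (p k ≫ gV) v (ρ (m k))).symm.trans (congrArg (G.obj.map v.op) (hm k))).trans
    ((congrArg (G.obj.map v.op) (map_map_sec G _ (p k) s)).trans (map_map_sec G _ v s))
  by_cases hZ : Nonempty Z.left
  · obtain ⟨w⟩ := hZ
    have hk : m k = m k₀ := (hO k (v.left w)).1 (by
      show (v ≫ p k).left w ∈ O
      rw [e]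
      exact (z.left w).2)
    rw [← hk]
    simpa only [Category.assoc] using h1
  · haveI : IsEmpty Z.left := not_nonempty_iff.1 hZ
    exact (hG _ ((neP_ax X).empty hZ)).isSeparatedFor.ext (fun _ _ h => h.elim)

end Groth.Agent.H18EpsMod
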