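import Groth.Agent.H18EpsMod.TrivUnit
import Groth.Agent.H1EpsS.Qcqs

/-!
Module sheaves trivial on a pro-étale covering commute with affine limits.
-/

set_option autoImplicit false
set_option backward.isDefEq.respectTransparency false
universe u

open CategoryTheory CategoryTheory.Limits AlgebraicGeometry Opposite

namespace Groth.Agent.H18EpsMod

open H1EpsS (IsLP IsSchLimit EvEq Lifts pieceDiag pieceCone pTop pFst ptFst ptπ)

variable {X : Scheme.{u}} {Λ : Type (u + 1)} [CommRing Λ]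

theorem lp_piece {G H : EtModW.ModP Λ X} (hH : IsLP (H.obj ⋙ forget (ModuleCat.{u + 1} Λ))) {U : X.ProEt}
    (e : G.over U ≅ H.over U) {I : Type u} [SmallCategory I] [IsCofiltered I] {D : I ⥤ X.ProEt} {c : Cone D}
    (hc : IsSchLimit c) (hD : ∀ i, IsAffine (D.obj i).left) (hT : IsAffine c.pt.left) {i : I} {W : X.ProEt}
    (w : W ⟶ D.obj i) [IsAffine W.left] (v : W ⟶ U) :
    (∀ x : (G.obj ⋙ forget _).obj (op (pieceCone w c).pt), Lifts (G.obj ⋙ forget _) (pieceCone w c) x) ∧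
    ∀ (m : Over i) (y y' : (G.obj ⋙ forget _).obj (op ((pieceDiag D w).obj m))),
      (G.obj ⋙ forget _).map (ptπ w c m).op y = (G.obj ⋙ forget _).map (ptπ w c m).op y' →
        EvEq (pieceDiag D w) (G.obj ⋙ forget _) y y' := by
  let E := (sheafToPresheaf _ _).mapIso e
  let ψ : ∀ (Z : X.ProEt), (Z ⟶ U) → (G.obj.obj (op Z) ≅ H.obj.obj (op Z)) := fun Z a => E.app (op (Over.mk a))
  have hψ : ∀ {Z Z' : X.ProEt} (q : Z' ⟶ Z) (a : Z ⟶ U) (a' : Z' ⟶ U), q ≫ a = a' →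
      ∀ y, H.obj.map q.op ((ψ Z a).hom y) = (ψ Z' a').hom (G.obj.map q.op y) := fun q a a' h y =>
    (NatTrans.naturality_apply E.hom (Over.homMk q h : Over.mk a' ⟶ Over.mk a).op y).symm
  have hinj : ∀ (Z : X.ProEt) (a : Z ⟶ U), Function.Injective (ψ Z a).hom := fun Z a =>
    (ψ Z a).toLinearEquiv.injective
  have hs : ∀ {Z : X.ProEt} (a : Z ⟶ U) (z : H.obj.obj (op Z)), (ψ Z a).hom ((ψ Z a).inv z) = z := fun {Z} a z =>
    (ψ Z a).toLinearEquiv.apply_symm_apply z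
  obtain ⟨hc₁⟩ := H1EpsS.nonempty_isLimit_pieceCone w hc
  have hlp := hH (pieceDiag D w) (pieceCone w c) hc₁ (H1EpsS.isAffine_pieceDiag w hD)
    (H1EpsS.isAffine_piecePt w hD hT)
  refine ⟨fun x => ?_, fun m y y' h => ?_⟩
  · obtain ⟨j, z, hz⟩ := hlp.1 ((ψ _ (ptFst w c ≫ v)).hom x)
    refine ⟨j, (ψ _ (pFst D w j ≫ v)).inv z, hinj _ (ptFst w c ≫ v) ?_⟩
    refine (hψ (ptπ w c j) (pFst D w j ≫ v) (ptFst w c ≫ v) ?_ _).symm.trans ?_
    · rw [← Category.assoc, H1EpsS.ptπ_fst]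
    · rw [hs]; exact hz
  · obtain ⟨j, f, hf⟩ := hlp.2 m ((ψ _ (pFst D w m ≫ v)).hom y) ((ψ _ (pFst D w m ≫ v)).hom y') (by
      have hw : ptπ w c m ≫ pFst D w m ≫ v = ptFst w c ≫ v := by rw [← Category.assoc, H1EpsS.ptπ_fst]
      exact ((hψ _ _ _ hw y).trans (congrArg (ψ _ _).hom h)).trans (hψ _ _ _ hw y').symm)
    refine ⟨j, f, hinj _ (pFst D w j ≫ v) ?_⟩
    have hw : (pieceDiag D w).map f ≫ pFst D w m ≫ v = pFst D w j ≫ v := by
      rw [← Category.assoc, H1EpsS.map_pFst]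
    exact ((hψ _ _ _ hw y).symm.trans hf).trans (hψ _ _ _ hw y')

/-- A sheaf isomorphic over a covering to sheaves commuting with affine limits commutes with affine limits. -/
theorem isLP_of_cover (G : EtModW.ModP Λ X) {ι : Type u} (U : ι → X.ProEt) (hU : EtModW.CoversP U)
    (h : ∀ b, ∃ H : EtModW.ModP Λ X, IsLP (H.obj ⋙ forget (ModuleCat.{u + 1} Λ)) ∧
      Nonempty (G.over (U b) ≅ H.over (U b))) : IsLP (G.obj ⋙ forget (ModuleCat.{u + 1} Λ)) := by
  choose H hH he using h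
  have hG : Presieve.IsSheaf (Scheme.ProEt.topology X) (G.obj ⋙ forget (ModuleCat.{u + 1} Λ)) :=
    (isSheaf_iff_isSheaf_of_type _ _).1 ((Presheaf.isSheaf_iff_isSheaf_forget _ _ _).1 G.property)
  intro I _ _ D c hc hD hT
  have hcov : ∀ i : I, ∃ (κ : Type u) (_ : Finite κ) (V : κ → X.ProEt) (g : ∀ k, V k ⟶ D.obj i),
      (∀ k, IsAffine (V k).left) ∧ (∀ k, ∃ b, Nonempty (V k ⟶ U b)) ∧
        Sieve.ofArrows V g ∈ Scheme.ProEt.topology X (D.obj i) := by
    intro i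
    haveI := hD i
    obtain ⟨κ, hκ, V, g, hV, hg, hmem, -⟩ := H1EpsS.exists_finite_affine_surj
      ((Scheme.ProEt.topology X).pullback_stable
        (MorphismProperty.Over.homMk (D.obj i).hom : D.obj i ⟶ ProEtS.topP X) hU)
    refine ⟨κ, hκ, V, g, hV, fun k => ?_, hmem⟩
    obtain ⟨_, a, _, ⟨b⟩, -⟩ := hg k
    exact ⟨b, ⟨a⟩⟩
  refine ⟨fun x => ?_, fun i y y' hy => ?_⟩
  · obtain ⟨i⟩ : Nonempty I := IsCofiltered.nonempty
    obtain ⟨κ, _, V, g, hV, hb, hmem⟩ := hcov i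
    choose b a using hb
    haveI := hD i
    haveI := hV
    refine H1EpsS.lifts_of_cover c hG hmem (fun k l m z z' hz => ?_) fun k => ?_
    · haveI : IsAffine (pullback (g k) (g l)).left := H1EpsS.isAffine_pullback_left _ _
      exact (lp_piece (hH (b k)) (he (b k)).some hc hD hT _ (pullback.fst (g k) (g l) ≫ (a k).some)).2 m z z' hz
    · exact (lp_piece (hH (b k)) (he (b k)).some hc hD hT (g k) (a k).some).1 _
  · obtain ⟨κ, _, V, g, hV, hb, hmem⟩ := hcov i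
    choose b a using hb
    haveI := hV
    refine H1EpsS.evEq_of_cover hG hmem fun k => ?_
    refine (lp_piece (hH (b k)) (he (b k)).some hc hD hT (g k) (a k).some).2 (Over.mk (𝟙 i)) _ _ ?_
    simp only [← Functor.map_comp_apply, ← op_comp, H1EpsS.ptπ_pTop]
    simp only [op_comp, Functor.map_comp_apply]
    exact congrArg _ hy

variable [ProEtS.EpsCont X]

/-- Constant module sheaves are presented by their constants. -/
theorem exists_locBij_const (M : Type (u + 1)) [AddCommGroup M] [Module Λ M] :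
    ∃ ρ : M →ₗ[Λ] (EtModW.constMod Λ X M).obj.obj (op (EtCoh.top X)),
      LocBij (neE X) (EtModW.constMod Λ X M) ρ := by
  let P : X.Etaleᵒᵖ ⥤ ModuleCat.{u + 1} Λ := (Functor.const _).obj (ModuleCat.of Λ M)
  let τ := toSheafify X.smallEtaleTopology P
  let ρ : M →ₗ[Λ] (EtModW.constMod Λ X M).obj.obj (op (EtCoh.top X)) := (τ.app (op (EtCoh.top X))).hom
  have key : ∀ {V : X.Etale} (g : V ⟶ EtCoh.top X) (m : M),
      τ.app (op V) m = (EtModW.constMod Λ X M).obj.map g.op (ρ m) := fun g m => NatTrans.naturality_apply τ g.op m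
  refine ⟨ρ, fun Y g hY m m' h => ?_, fun Y g s => ?_⟩
  · obtain ⟨Z, f, hf, -⟩ := (neE_ax X).exists_mem hY _
      (Presheaf.equalizerSieve_mem X.smallEtaleTopology τ (X := op Y) m m' ((key g m).trans (h.trans (key g m').symm)))
    exact hf
  · refine ⟨_, Presheaf.imageSieve_mem X.smallEtaleTopology τ (U := op Y) s, fun Z h hh => ?_⟩
    obtain ⟨m, hm⟩ := hh
    exact ⟨m, (key (h ≫ g) m).symm.trans hm⟩

theorem isLP_of_isFPLocConstP (G : EtModW.ModP Λ X) (hG : EtModW.IsFPLocConstP Λ G) :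
    IsLP (G.obj ⋙ forget (ModuleCat.{u + 1} Λ)) := by
  obtain ⟨ι, U, hU, hM⟩ := hG
  refine isLP_of_cover G U hU fun b => ?_
  obtain ⟨M, _, _, -, ⟨e⟩⟩ := hM b
  refine ⟨(EtModW.epsPullMod Λ X).obj (EtModW.constMod Λ X M), isLP_epsPullMod _, ?_⟩
  obtain ⟨ρ, hρ⟩ := exists_locBij_const (X := X) (Λ := Λ) M
  let a : U b ⟶ (ProEtS.eps X).obj (EtCoh.top X) :=
    MorphismProperty.Over.homMk (U b).hom (Category.comp_id _)
  obtain ⟨e'⟩ := ((locBij_unit hρ).comp a).nonempty_over_iso (neP_ax X)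
  exact ⟨e ≪≫ e'.symm⟩

end Groth.Agent.H18EpsMod
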