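import Groth.Agent.H18EpsMod.Triv
import Groth.Agent.H1EpsS.SheafAffine
import Groth.Agent.H26ProEt.FiniteCover
import Groth.Agent.H18Et.PushClosed
import Groth.Agent.H18Et.AffineCriterion
import Groth.Agent.H12AlgSp.ValuativeClosed
import Mathlib.AlgebraicGeometry.Morphisms.UniversallyOpen

/-!
Nonempty objects of the étale and pro-étale sites; open subsets cut out by flat affine pieces.
-/

set_option autoImplicit false
set_option backward.isDefEq.respectTransparency false
universe u

open CategoryTheory CategoryTheory.Limits AlgebraicGeometry Opposite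

namespace Groth.Agent.H18EpsMod

variable (X : Scheme.{u})

/-- Nonempty objects of the pro-étale site. -/
def neP (Y : X.ProEt) : Prop := Nonempty Y.left

/-- Nonempty objects of the étale site. -/
def neE (Y : X.Etale) : Prop := Nonempty Y.left

theorem neP_ax : NEAx (Scheme.ProEt.topology X) (neP X) where
  exists_mem := fun Y hY R hR => by
    obtain ⟨y⟩ := hY
    obtain ⟨Z, f, z, hf, -⟩ := H1EpsS.exists_mem_of_mem_topology hR y
    exact ⟨Z, f, hf, ⟨z⟩⟩
  empty := fun Y hY => by
    haveI : IsEmpty Y.left := not_nonempty_iff.1 hY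
    haveI : IsAffine Y.left := isAffine_of_isEmpty
    refine (Scheme.ProEt.topology X).superset_covering ?_
      (H26ProEt.mem_topology_of_finite_affine (ι := PEmpty) (fun k => k.elim) (fun k => k.elim)
        (hV := fun k => k.elim) fun x => isEmptyElim x)
    rw [Sieve.ofArrows, Sieve.generate_le_iff, Presieve.ofArrows_le_iff]
    exact fun k => k.elim

theorem neE_ax : NEAx X.smallEtaleTopology (neE X) where
  exists_mem := fun Y hY R hR => by
    obtain ⟨y⟩ := hY
    obtain ⟨Z, f, z, hf, -, -⟩ := H18Et.AffineCriterion.mem_etale_iff.1 hR y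
    exact ⟨Z, f, hf, ⟨z⟩⟩
  empty := fun Y hY => H18Et.bot_mem_of_isEmpty Y (not_nonempty_iff.1 hY)

variable {X}

/-- Flat affine pieces covering an affine scheme, sorted in two classes with disjoint images, cut out an
open subset. -/
theorem exists_open_of_flat_pieces {D : Scheme.{u}} [IsAffine D] {κ : Type u} [Finite κ] {P : κ → Scheme.{u}}
    [∀ k, IsAffine (P k)] (g : ∀ k, P k ⟶ D) [∀ k, Flat (g k)] (good : κ → Prop)
    (hs : ∀ x : D, ∃ (k : κ) (y : P k), g k y = x)
    (hsep : ∀ (k l : κ) (y : P k) (z : P l), g k y = g l z → good k → good l) :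
    ∃ O : D.Opens, ∀ (k : κ) (y : P k), g k y ∈ O ↔ good k := by
  let f : (∐ fun k : {k // ¬ good k} => P k.1) ⟶ D := Sigma.desc fun k => g k.1
  have hf : ∀ x, x ∈ Set.range f ↔ ∃ k, ¬ good k ∧ ∃ y, g k y = x := fun x => by
    constructor
    · rintro ⟨w, rfl⟩
      obtain ⟨k, y, rfl⟩ := (sigmaOpenCover fun k : {k // ¬ good k} => P k.1).exists_eq w
      refine ⟨k.1, k.2, y, ?_⟩
      change g k.1 y = (Sigma.ι (fun k : {k // ¬ good k} => P k.1) k ≫ f) y
      rw [Sigma.ι_desc]
    · rintro ⟨k, hk, y, rfl⟩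
      refine ⟨Sigma.ι (fun k : {k // ¬ good k} => P k.1) ⟨k, hk⟩ y, ?_⟩
      change (Sigma.ι (fun k : {k // ¬ good k} => P k.1) ⟨k, hk⟩ ≫ f) y = g k y
      rw [Sigma.ι_desc]
  have hA : StableUnderSpecialization (Set.range f) := by
    intro a b hab ha
    obtain ⟨k, hk, y, rfl⟩ := (hf a).1 ha
    obtain ⟨l, z, rfl⟩ := hs b
    obtain ⟨z', -, hz'⟩ := Flat.generalizingMap (g l) hab
    exact (hf _).2 ⟨l, fun hl => hk (hsep l k z' y hz' hl), z, rfl⟩
  have hcl : IsClosed (Set.range f) := by
    have h := H12AlgSp.isClosed_image_of_affine f (W := Set.univ) isClosed_univ (by rwa [Set.image_univ])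
    rwa [Set.image_univ] at h
  refine ⟨⟨(Set.range f)ᶜ, hcl.isOpen_compl⟩, fun k y => ⟨fun h => ?_, fun hk h => ?_⟩⟩
  · by_contra hk
    exact h ((hf _).2 ⟨k, hk, y, rfl⟩)
  · obtain ⟨l, hl, z, hz⟩ := (hf _).1 h
    exact hl (hsep k l y z hz.symm hk)

end Groth.Agent.H18EpsMod
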