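import Groth.Agent.H18EpsMod.TrivSite
import Groth.Agent.H18EpsMod.Forget
import Groth.Agent.H1EpsS.IndEtale
import Groth.Agent.H1EpsS.Compare

/-!
A trivialization of an étale module sheaf gives one of its pro-étale pullback.
-/

set_option autoImplicit false
set_option backward.isDefEq.respectTransparency false
universe u

open CategoryTheory CategoryTheory.Limits AlgebraicGeometry Opposite

namespace Groth.Agent.H18EpsMod

open H26ProEt (pieceObj pieceHom)
open H1EpsS (IsLP IsSchLimit EvEq Lifts)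

variable {X : Scheme.{u}}

/-- An open cover of the source is a pro-étale covering. -/
theorem pieces_mem (Y : X.ProEt) {ι : Type u} (O : ι → Y.left.Opens) (hO : ∀ y, ∃ i, y ∈ O i) :
    Sieve.ofArrows (fun i => pieceObj Y (O i)) (fun i => pieceHom Y (O i)) ∈ Scheme.ProEt.topology X Y := by
  refine Precoverage.generate_mem_toGrothendieck ?_
  simp only [Scheme.ProEt.precoverage, Precoverage.mem_comap_iff, Presieve.map_ofArrows]
  apply Scheme.zariskiPrecoverage_le_propQCPrecoverage
  let E : PreZeroHypercover Y.left := ⟨ι, fun i => (O i : Scheme.{u}), fun i => (O i).ι⟩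
  show E.presieve₀ ∈ Scheme.precoverage @IsOpenImmersion Y.left
  rw [Scheme.presieve₀_mem_precoverage_iff]
  exact ⟨fun y => (hO y).imp fun i hi => ⟨⟨y, hi⟩, rfl⟩, fun i => (inferInstance : IsOpenImmersion (O i).ι)⟩

/-- An étale object of the pro-étale site as an object of the étale site. -/
abbrev etObj (W : X.ProEt) (h : Etale W.hom) : X.Etale :=
  MorphismProperty.Over.mk ⊤ W.hom (show EtCoh.etaleMP W.hom from h)

/-- It gives back the object. -/
noncomputable def etObjIso (W : X.ProEt) (h : Etale W.hom) : (ProEtS.eps X).obj (etObj W h) ≅ W :=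
  MorphismProperty.Over.isoMk (Iso.refl _) (Category.id_comp _)

/-- A morphism to an étale object. -/
abbrev etHom {W : X.ProEt} (h : Etale W.hom) {U : X.Etale} (a : W ⟶ (ProEtS.eps X).obj U) : etObj W h ⟶ U :=
  MorphismProperty.Over.homMk a.left (MorphismProperty.Over.w a)

theorem eps_map_etHom {W : X.ProEt} (h : Etale W.hom) {U : X.Etale} (a : W ⟶ (ProEtS.eps X).obj U) :
    (ProEtS.eps X).map (etHom h a) = (etObjIso W h).hom ≫ a :=
  MorphismProperty.Over.Hom.ext (Category.id_comp a.left).symm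

/-- `ε` carries coverings to coverings. -/
theorem eps_pushforward_mem {U : X.Etale} {R : Sieve U} (hR : R ∈ X.smallEtaleTopology U) :
    R.functorPushforward (ProEtS.eps X) ∈ Scheme.ProEt.topology X ((ProEtS.eps X).obj U) := by
  choose Y f y hf het hy using H18Et.AffineCriterion.mem_etale_iff.1 hR
  refine H1EpsS.etTop_le _ ((H1EpsS.etTop X).superset_covering ?_ (H1EpsS.ofArrows_mem (B := (ProEtS.eps X).obj U)
    (fun x : U.left => (ProEtS.eps X).map (f x)) het fun x => ⟨x, y x, hy x⟩))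
  rw [Sieve.ofArrows, Sieve.generate_le_iff, Presieve.ofArrows_le_iff]
  exact fun x => ⟨Y x, f x, 𝟙 _, hf x, (Category.id_comp _).symm⟩

/-- Every object over an étale object is covered by limits of affine étale objects over it. -/
theorem exists_stage_cover {U : X.Etale} {Y : X.ProEt} (g : Y ⟶ (ProEtS.eps X).obj U) :
    ∃ (κ : Type u) (I : κ → Type u) (_ : ∀ k, SmallCategory (I k)) (_ : ∀ k, IsCofiltered (I k))
      (D : ∀ k, I k ⥤ X.ProEt) (c : ∀ k, Cone (D k)) (p : ∀ k, (c k).pt ⟶ Y)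
      (a : ∀ k (i : I k), (D k).obj i ⟶ (ProEtS.eps X).obj U),
      Sieve.ofArrows (fun k => (c k).pt) p ∈ Scheme.ProEt.topology X Y ∧
      ∀ k, Nonempty (IsSchLimit (c k)) ∧ IsAffine (c k).pt.left ∧ (∀ i, IsAffine ((D k).obj i).left) ∧
        (∀ i, Etale ((D k).obj i).hom) ∧ ∀ i, (c k).π.app i ≫ a k i = p k ≫ g := by
  have hstep : ∀ y : Y.left, ∃ (O : Y.left.Opens) (_ : y ∈ O) (_ : IsAffineOpen O) (B : X.ProEt)
      (q : pieceObj Y O ⟶ B) (b : B ⟶ (ProEtS.eps X).obj U),
      IsAffine B.left ∧ Etale B.hom ∧ q ≫ b = pieceHom Y O ≫ g := by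
    intro y
    obtain ⟨W, hW, hyW, -⟩ := exists_isAffineOpen_mem_and_subset (X := ((ProEtS.eps X).obj U).left)
      (x := g.left y) (U := ⊤) trivial
    obtain ⟨O, hO, hyO, hOW⟩ := exists_isAffineOpen_mem_and_subset (x := y) (U := g.left ⁻¹ᵁ W) hyW
    haveI : Etale ((ProEtS.eps X).obj U).hom := U.prop
    refine ⟨O, hyO, hO, pieceObj ((ProEtS.eps X).obj U) W,
      MorphismProperty.Over.homMk (IsOpenImmersion.lift W.ι (O.ι ≫ g.left) ?_) ?_, pieceHom _ W, hW,
      inferInstanceAs (Etale (W.ι ≫ ((ProEtS.eps X).obj U).hom)),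
      MorphismProperty.Over.Hom.ext (IsOpenImmersion.lift_fac _ _ _)⟩
    · rintro _ ⟨w, rfl⟩
      exact ⟨⟨g.left w.1, hOW w.2⟩, rfl⟩
    · show IsOpenImmersion.lift W.ι (O.ι ≫ g.left) _ ≫ W.ι ≫ ((ProEtS.eps X).obj U).hom = O.ι ≫ Y.hom
      rw [IsOpenImmersion.lift_fac_assoc, Category.assoc]
      exact congrArg (O.ι ≫ ·) (MorphismProperty.Over.w g)
  choose O hyO hO B q b hB hBe hqb using hstep
  haveI : ∀ y, IsAffine (pieceObj Y (O y)).left := hO
  haveI := hB
  choose I hI hI' D c d e hc hct hD hd hes hdc hed using fun y => H1EpsS.exists_indEtale_refinement (q y)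
  refine ⟨Y.left, I, hI, hI', D, c, fun y => e y ≫ pieceHom Y (O y), fun y i => d y i ≫ b y, ?_, fun y => ?_⟩
  · refine (Scheme.ProEt.topology X).superset_covering ?_
      ((Scheme.ProEt.topology X).bind_covering (pieces_mem Y O fun y => ⟨y, hyO y⟩)
        (R := fun Z f hf => Sieve.pullback f (Sieve.ofArrows (fun y => (c y).pt) (fun y => e y ≫ pieceHom Y (O y))))
        (fun Z f hf => ?_))
    · intro Z h hh
      obtain ⟨Z', a, f, hf, ha, rfl⟩ := hh
      exact ha
    · obtain ⟨_, a, f, hf, rfl⟩ := hf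
      obtain ⟨y⟩ := hf
      rw [Sieve.pullback_comp]
      refine (Scheme.ProEt.topology X).pullback_stable a ?_
      haveI := hct y
      haveI := hes y
      refine (Scheme.ProEt.topology X).superset_covering ?_
        (H26ProEt.mem_topology_of_finite_affine (X := pieceObj _ (O y)) (ι := PUnit) (fun _ => (c y).pt)
          (fun _ => e y) (hV := fun _ => hct y) fun x => ⟨⟨⟩, (e y).left.surjective x⟩)
      rw [Sieve.ofArrows, Sieve.generate_le_iff, Presieve.ofArrows_le_iff]
      exact fun _ => ⟨_, 𝟙 _, _, ⟨y⟩, Category.id_comp _⟩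
  · refine ⟨hc y, hct y, hD y, fun i => ?_, fun i => ?_⟩
    · haveI := hd y i
      haveI := hBe y
      rw [← MorphismProperty.Over.w (d y i)]
      infer_instance
    · rw [← Category.assoc, hed y i, Category.assoc, hqb, Category.assoc]

variable {Λ : Type (u + 1)} [CommRing Λ] [ProEtS.EpsCont X]

theorem isLP_of_natIso {P Q : X.ProEtᵒᵖ ⥤ Type (u + 1)} (e : P ≅ Q) (hP : IsLP P) : IsLP Q := by
  intro I _ _ D c hc hD hT
  refine ⟨fun x => ?_, fun i y y' h => ?_⟩
  · obtain ⟨j, z, hz⟩ := (hP D c hc hD hT).1 (e.inv.app _ x)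
    refine ⟨j, e.hom.app _ z, ?_⟩
    rw [← NatTrans.naturality_apply, hz]
    exact (e.app (op c.pt)).toEquiv.apply_symm_apply x
  · obtain ⟨j, f, hf⟩ := (hP D c hc hD hT).2 i (e.inv.app _ y) (e.inv.app _ y') (by
      rw [← NatTrans.naturality_apply, ← NatTrans.naturality_apply, h])
    refine ⟨j, f, ?_⟩
    rw [← NatTrans.naturality_apply, ← NatTrans.naturality_apply] at hf
    exact (e.app _).toEquiv.symm.injective hf

theorem isLP_epsPullMod (F : EtModW.Mod Λ X) :
    IsLP (((EtModW.epsPullMod Λ X).obj F).obj ⋙ forget (ModuleCat.{u + 1} Λ)) :=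
  isLP_of_natIso
    (Functor.isoWhiskerRight ((sheafToPresheaf _ _).mapIso ((cmpIso Λ X).app F)) (forget AddCommGrpCat.{u + 1}))
    (H1EpsS.isLP_eps ((fgt Λ X).obj F))

/-- The unit on sections. -/
noncomputable abbrev unitSec (F : EtModW.Mod Λ X) (V : X.Etale) :
    F.obj.obj (op V) →ₗ[Λ] ((EtModW.epsPullMod Λ X).obj F).obj.obj (op ((ProEtS.eps X).obj V)) :=
  (((adjMod Λ X).unit.app F).hom.app (op V)).hom

theorem unitSec_bijective (F : EtModW.Mod Λ X) (V : X.Etale) : Function.Bijective (unitSec F V) := by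
  haveI := isIso_unit Λ F
  haveI : IsIso ((adjMod Λ X).unit.app F).hom :=
    ((sheafToPresheaf _ _).mapIso (asIso ((adjMod Λ X).unit.app F))).isIso_hom
  exact (ConcreteCategory.isIso_iff_bijective (((adjMod Λ X).unit.app F).hom.app (op V))).1 inferInstance

theorem unitSec_map (F : EtModW.Mod Λ X) {V V' : X.Etale} (h : V' ⟶ V) (s : F.obj.obj (op V)) :
    unitSec F V' (F.obj.map h.op s) =
      ((EtModW.epsPullMod Λ X).obj F).obj.map ((ProEtS.eps X).map h).op (unitSec F V s) :=
  NatTrans.naturality_apply ((adjMod Λ X).unit.app F).hom h.op s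

theorem locBij_unit {F : EtModW.Mod Λ X} {U : X.Etale} {M : Type (u + 1)} [AddCommGroup M] [Module Λ M]
    {ρ : M →ₗ[Λ] F.obj.obj (op U)} (hρ : LocBij (neE X) F ρ) :
    LocBij (neP X) ((EtModW.epsPullMod Λ X).obj F) (unitSec F U ∘ₗ ρ) := by
  let G := (EtModW.epsPullMod Λ X).obj F
  refine ⟨fun Y g hY m m' h => ?_, fun Y g s => ?_⟩
  · obtain ⟨κ, I, _, _, D, c, p, a, hcov, hprop⟩ := exists_stage_cover g
    obtain ⟨y⟩ := hY
    obtain ⟨Z, f, z, hf, -⟩ := H1EpsS.exists_mem_of_mem_topology hcov y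
    obtain ⟨_, l, f, hf, rfl⟩ := hf
    obtain ⟨k⟩ := hf
    obtain ⟨⟨hc⟩, hct, hD, het, hac⟩ := hprop k
    obtain ⟨i₀⟩ : Nonempty (I k) := IsCofiltered.nonempty
    have h' : G.obj.map ((c k).π.app i₀).op (G.obj.map (a k i₀).op (unitSec F U (ρ m))) =
        G.obj.map ((c k).π.app i₀).op (G.obj.map (a k i₀).op (unitSec F U (ρ m'))) := by
      rw [map_map_sec, map_map_sec, hac i₀]
      exact ((map_map_sec G g (p k) _).symm.trans (congrArg (G.obj.map (p k).op) h)).trans (map_map_sec G g (p k) _)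
    obtain ⟨j, f, hj⟩ : EvEq (D k) (G.obj ⋙ forget _) _ _ :=
      (isLP_epsPullMod F (D k) (c k) hc hD hct).2 i₀ _ _ h'
    change G.obj.map _ (G.obj.map _ _) = G.obj.map _ (G.obj.map _ _) at hj
    refine hρ.1 (etHom (het j) ((D k).map f ≫ a k i₀)) ⟨((c k).π.app j).left (l.left z)⟩ m m' ?_
    refine (unitSec_bijective F _).1 ?_
    rw [unitSec_map, unitSec_map, eps_map_etHom, ← map_map_sec G _ (etObjIso _ _).hom,
      ← map_map_sec G _ (etObjIso _ _).hom]
    refine congrArg _ ?_
    rw [← map_map_sec G (a k i₀), ← map_map_sec G (a k i₀)]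
    exact hj
  · obtain ⟨κ, I, _, _, D, c, p, a, hcov, hprop⟩ := exists_stage_cover g
    refine ⟨_, (Scheme.ProEt.topology X).bind_covering hcov
      (R := fun Z f hf => Sieve.mk (fun W w => ∃ m, G.obj.map ((w ≫ f) ≫ g).op (unitSec F U (ρ m)) =
        G.obj.map (w ≫ f).op s) (fun {W W' w} hw v => by
          obtain ⟨m, hm⟩ := hw
          refine ⟨m, ?_⟩
          rw [Category.assoc, Category.assoc, Category.assoc, ← map_map_sec G _ v, ← map_map_sec G _ v,
            ← Category.assoc, hm]))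
      (fun Z f hf => ?_), fun Z h hh => ?_⟩
    · obtain ⟨_, l, f, hf, rfl⟩ := hf
      obtain ⟨k⟩ := hf
      obtain ⟨⟨hc⟩, hct, hD, het, hac⟩ := hprop k
      obtain ⟨j, t, ht⟩ := (isLP_epsPullMod F (D k) (c k) hc hD hct).1 (G.obj.map (p k).op s)
      change G.obj.map ((c k).π.app j).op t = _ at ht
      obtain ⟨t₀, ht₀⟩ := (unitSec_bijective F _).2 (G.obj.map (etObjIso _ (het j)).hom.op t)
      obtain ⟨R, hR, hm⟩ := hρ.2 (etHom (het j) (a k j)) t₀
      refine (Scheme.ProEt.topology X).superset_covering ?_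
        ((Scheme.ProEt.topology X).pullback_stable (l ≫ (c k).π.app j ≫ (etObjIso _ (het j)).inv)
          (eps_pushforward_mem hR))
      rintro W w ⟨W', u', v, hu', e⟩
      obtain ⟨m, hm⟩ := hm u' hu'
      refine ⟨m, ?_⟩
      have h1 := congrArg (unitSec F W') hm
      rw [unitSec_map, unitSec_map, ht₀, map_map_sec, Functor.map_comp, eps_map_etHom] at h1
      have h2 := congrArg (G.obj.map v.op) h1
      rw [map_map_sec, map_map_sec, ← reassoc_of% e, Iso.inv_hom_id_assoc, hac] at h2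
      rw [Category.assoc, Category.assoc]
      refine h2.trans ?_
      rw [← Category.assoc v, ← e]
      simp only [Category.assoc, Iso.inv_hom_id, Category.comp_id]
      rw [← Category.assoc w l, ← Category.assoc w l]
      exact ((map_map_sec G ((c k).π.app j) (w ≫ l) t).symm.trans (congrArg (G.obj.map (w ≫ l).op) ht)).trans
        (map_map_sec G (p k) (w ≫ l) s)
    · obtain ⟨Z', b, f, hf, hb, rfl⟩ := hh
      exact hb

end Groth.Agent.H18EpsMod
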